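import Cfsg.Agent.Ree.Real.Setup

/-!
Three irreducible degrees of a group of Ree type.
-/

set_option autoImplicit false
set_option linter.unusedSectionVars false
set_option linter.style.haveILetI false

namespace Cfsg.Lib.TICyclic

open Cfsg Cfsg.Lib.Chars

universe u v

variable {G : Type u} [Group G] [Fintype G] {t : G} {E : Subgroup G} [Fintype E] {F : Type v} [Field F]
  [Fintype F]

theorem exists_degrees (H : Ree.Setting t E F) :
    ∃ n : ℕ, 1 ≤ n ∧ Fintype.card F = 3 ^ (2 * n + 1) ∧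
      ∃ a b c : IrrCharacter G,
        deg (a : G → ℂ) + Fintype.card F = Fintype.card F ^ 2 + 1 ∧
        (deg (b : G → ℂ) = 3 ^ n * ((Fintype.card F - 1) / 2) * (Fintype.card F + 1) +
            Fintype.card F * ((Fintype.card F - 1) / 2) ∨
          deg (b : G → ℂ) + Fintype.card F * ((Fintype.card F - 1) / 2) =
            3 ^ n * ((Fintype.card F - 1) / 2) * (Fintype.card F + 1)) ∧
        deg (c : G → ℂ) = Fintype.card F ^ 3 := by
  classical
  obtain ⟨C⟩ := Ree.Real.exists_rctx H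
  refine ⟨C.n, C.n_pos, C.card_eq, C.S.e1, C.S.c5, C.S.c4, ?_, ?_, ?_⟩
  all_goals set q : ℤ := (Fintype.card F : ℤ) with hq
  all_goals
    have habs : ∀ χ : IrrCharacter G, (deg (χ : G → ℂ) : ℤ) = |C.D.d χ| := fun χ => by
      have h1 : |C.D.R.sg χ| = 1 := by
        rcases Int.mul_eq_one_iff_eq_one_or_neg_one.1 (C.D.R.sg_sq χ) with ⟨e, -⟩ | ⟨e, -⟩ <;> simp [e]
      rw [Ree.Ctx.d, abs_mul, h1, one_mul, Nat.abs_cast]
  · have h : ((deg (C.S.e1 : G → ℂ) + Fintype.card F : ℕ) : ℤ) = ((Fintype.card F ^ 2 + 1 : ℕ) : ℤ) := by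
      push_cast
      rw [habs, C.d_e1, ← hq, abs_of_nonneg (by nlinarith)]
      ring
    exact_mod_cast h
  · have hq27 : (27 : ℤ) ≤ q := by rw [hq]; exact_mod_cast C.q_ge
    set A : ℤ := (((Fintype.card F - 1) / 2 : ℕ) : ℤ) with hA
    have hA2 : 2 * A = q - 1 := by
      have := C.q_mod; rw [hA, hq]; omega
    have hM : Ree.midVal (Ree.signedCard F) = -A := by rw [Ree.midVal, C.signed]; omega
    obtain ⟨-, h56, -⟩ := C.S.cols
    rw [C.d_c3, C.d_c4, ← hq] at h56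
    have hmid := C.S.degrees.1.eq_a
    rw [C.h_eq, C.d_c3, C.d_c4, hM, C.signed, ← hq] at hmid
    set a := C.D.d C.S.c5 with ha
    set b := C.D.d C.S.c6 with hb
    have hs : a + b = q * (q - 1) := by linear_combination h56
    have ha0 : (a : ℚ) ≠ 0 := Int.cast_ne_zero.2 (C.D.d_ne _)
    have hb0 : (b : ℚ) ≠ 0 := Int.cast_ne_zero.2 (C.D.d_ne _)
    have hq' : (q : ℚ) ≠ 0 := Int.cast_ne_zero.2 (by omega)
    have hP' : (q : ℚ) ^ 2 - q + 1 ≠ 0 := by
      have hP0 : q ^ 2 - q + 1 ≠ 0 := by nlinarith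
      exact_mod_cast hP0
    have e := hmid
    push_cast at e
    have hab : ((1 : ℚ) / a + 1 / b) * (a * b) = b + a := by field_simp
    have hc : ((q : ℚ) ^ 2 * ((q : ℚ) ^ 2 - q + 1)) * (q : ℚ) ^ 2 *
        (1 / ((q : ℚ) * ((q : ℚ) ^ 2 - q + 1)) + 1 / -((q : ℚ) ^ 3)) = (q : ℚ) ^ 2 - q := by
      rw [show (1 : ℚ) / ((q : ℚ) * ((q : ℚ) ^ 2 - q + 1)) + 1 / -((q : ℚ) ^ 3) =
        ((q : ℚ) ^ 2 - ((q : ℚ) ^ 2 - q + 1)) / ((q : ℚ) ^ 3 * ((q : ℚ) ^ 2 - q + 1)) by
          generalize hΦ : (q : ℚ) ^ 2 - q + 1 = P at hP' ⊢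
          field_simp
          ring, ← mul_div_assoc, div_eq_iff (mul_ne_zero (pow_ne_zero 3 hq') hP')]
      ring
    have eZ : ((q ^ 2 - q + 1) * A ^ 2 * q ^ 2 * (b + a) + a * b * (q ^ 2 - q)) =
        -(a * b * q * (3 * q - 1) * (q - 1)) := by
      apply Int.cast_injective (α := ℚ)
      push_cast
      linear_combination (a * b : ℚ) * e - ((q : ℚ) ^ 2 * ((q : ℚ) ^ 2 - q + 1) * (A : ℚ) ^ 2) * hab -
        (a * b : ℚ) * hc
    have h3 : q * (q - 1) * q * (q * A ^ 2 * (q ^ 2 - q + 1) + 3 * (a * b)) = 0 := by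
      linear_combination eZ - ((q ^ 2 - q + 1) * A ^ 2 * q ^ 2) * hs
    have h4 := (mul_eq_zero.1 h3).resolve_left
      (mul_ne_zero (mul_ne_zero (by omega) (by omega)) (by omega))
    set m : ℤ := 3 ^ C.n with hm
    have hqm : q = 3 * m ^ 2 := by
      rw [hq, hm, C.card_eq, ← pow_mul]; push_cast; rw [pow_succ, mul_comm 2]; ring
    have hroot : (a - q * A) ^ 2 = (m * A * (q + 1)) ^ 2 := by
      have hsq : 3 * (a - q * A) ^ 2 = 3 * (m * A * (q + 1)) ^ 2 := by
        have hb' : b = 2 * q * A - a := by linear_combination hs - q * hA2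
        rw [hb'] at h4
        linear_combination (-1 : ℤ) * h4 + (A ^ 2 * (q + 1) ^ 2) * hqm
      linarith
    have hm1 : 1 ≤ m := by rw [hm]; exact one_le_pow₀ (by norm_num)
    have hA0 : 0 < A := by omega
    have hbig : q * A ≤ m * A * (q + 1) := by
      nlinarith [mul_le_mul_of_nonneg_right hm1 (mul_nonneg hA0.le (by omega : (0 : ℤ) ≤ q + 1))]
    have hdeg := habs C.S.c5
    rw [← ha] at hdeg
    rcases sq_eq_sq_iff_eq_or_eq_neg.1 hroot with h | h
    · left
      have : (deg (C.S.c5 : G → ℂ) : ℤ) = m * A * (q + 1) + q * A := by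
        rw [hdeg, abs_of_nonneg (by nlinarith)]; linarith
      rw [hm, hA, hq] at this
      exact_mod_cast this
    · right
      have : (deg (C.S.c5 : G → ℂ) : ℤ) + q * A = m * A * (q + 1) := by
        rw [hdeg, abs_of_nonpos (by linarith)]; linarith
      rw [hm, hA, hq] at this
      exact_mod_cast this
  · have h : (deg (C.S.c4 : G → ℂ) : ℤ) = ((Fintype.card F ^ 3 : ℕ) : ℤ) := by
      rw [habs, C.d_c4, abs_neg, abs_of_nonneg (by positivity)]
      push_cast; rfl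
    exact_mod_cast h

end Cfsg.Lib.TICyclic
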