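import Cfsg.Agent.NoTwoTransitive.Basic
import Cfsg.Agent.NoTwoTransitive.Borel
import Cfsg.Agent.Chars.DefectZero

/-!
Groups of Ree type: a Sylow 3-subgroup `R` with a fixed-point-free group of order `(q - 1) / 2` acting on it,
and `q³ + 1` conjugates of `R` with trivial intersections.
-/

set_option autoImplicit false
set_option linter.unusedSectionVars false
set_option linter.style.haveILetI false

namespace Cfsg.Lib.TICyclic

open Subgroup Cfsg Cfsg.Lib.Chars
open Cfsg.Lib.ReeAb (Base)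

universe u v

/-- The data of the Borel subgroup. -/
structure Borel {G : Type u} [Group G] (q : ℕ) (R T : Subgroup G) : Prop where
  three : IsPGroup 3 R
  card_R : Nat.card R = q ^ 3
  card_T : Nat.card T = (q - 1) / 2
  norm : T ≤ normalizer (R : Set G)
  fpf : ∀ a ∈ T, a ≠ 1 → ∀ x ∈ R, Commute x a → x = 1
  spread : ∃ (Ω : Type u) (_ : Fintype Ω) (c : Ω → G), Fintype.card Ω = q ^ 3 + 1 ∧
    ∀ i j, ∀ x ∈ R, ∀ y ∈ R, x ≠ 1 → c i * x * (c i)⁻¹ = c j * y * (c j)⁻¹ → i = j

variable {G : Type u} [Group G] [Fintype G] {t : G} {E : Subgroup G} {q : ℕ}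

/-- The squares of the torus. -/
theorem exists_odd_torus (B : Base t E q) {U H : Subgroup G} (Z : NoTwoTrans.Torus t q U H) :
    ∃ T : Subgroup G, T ≤ H ∧ Nat.card T = (q - 1) / 2 ∧ ∀ a ∈ T, a ≠ 1 → a ≠ t := by
  have hq := B.q_ge
  have h8 := B.q_mod
  let f : H →* G :=
    { toFun := fun b => (b : G) * b
      map_one' := by simp
      map_mul' := fun a b => by
        push_cast
        exact Commute.mul_mul_mul_comm (Z.comm b b.2 a a.2) _ _ }
  refine ⟨f.range, ?_, ?_, ?_⟩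
  · rintro _ ⟨b, rfl⟩
    exact mul_mem b.2 b.2
  · have hker : Nat.card f.ker = 2 := by
      rw [Nat.card_eq_two_iff]
      refine ⟨1, ⟨⟨t, Z.mem_t⟩, B.tt⟩, fun e => ?_, Set.eq_univ_of_forall fun b => ?_⟩
      · have h1 : (1 : G) = t := congrArg (fun z : f.ker => ((z : H) : G)) e
        have := B.ord
        rw [← h1, orderOf_one] at this
        omega
      · rcases Z.invol (b : H) (b : H).2 b.2 with h | h
        · exact Or.inl (Subtype.ext (Subtype.ext h))
        · exact Or.inr (Subtype.ext (Subtype.ext h))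
    have h := f.ker.card_mul_index
    rw [Subgroup.index_ker, hker, Z.card_H] at h
    omega
  · rintro _ ⟨b, rfl⟩ hne htb
    have hb : orderOf (b : G) = 2 ^ (1 + 1) := by
      haveI : Fact (Nat.Prime 2) := ⟨Nat.prime_two⟩
      have htb' : (b : G) * b = t := htb
      refine orderOf_eq_prime_pow ?_ ?_
      · rw [pow_one, pow_two]; exact hne
      · rw [show 2 ^ (1 + 1) = 2 * 2 from rfl, pow_mul, pow_two (b : G), htb', pow_two, B.tt]
    have h4 := H.orderOf_dvd_natCard b.2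
    rw [hb, Z.card_H] at h4
    omega

theorem exists_borel (B : Base t E q) (c : IrrCharacter G) (hdc : deg (c : G → ℂ) = q ^ 3) :
    ∃ R T : Subgroup G, Borel q R T := by
  classical
  haveI : Fact (Nat.Prime 3) := ⟨Nat.prime_three⟩
  obtain ⟨U, H, Z⟩ := NoTwoTrans.exists_torus B
  have hq := B.q_ge
  let S := {R : Subgroup G // IsPGroup 3 R ∧ U ≤ R ∧ H ≤ normalizer (R : Set G)}
  haveI : Nonempty S := ⟨⟨U, Z.three, le_rfl, fun h hh => mem_normalizer_fintype fun x hx => Z.norm_U h hh x hx⟩⟩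
  obtain ⟨⟨R, hR, hUR, hHR⟩, hmax⟩ := Finite.exists_max fun R : S => Nat.card R.1
  have hRc : Nat.card R = q ^ 3 := by
    by_contra h
    obtain ⟨R', h1, h2, h3, h4⟩ := Z.step B hR hUR hHR h
    exact absurd (hmax ⟨R', h1, h2, h3⟩) (not_le.2 h4)
  obtain ⟨T, hTH, hTc, hTt⟩ := exists_odd_torus B Z
  have hco : Nat.Coprime (q ^ 3) (q - 1) :=
    Nat.Coprime.pow_left 3 ((Nat.coprime_self_sub_right (by omega)).2 (Nat.coprime_one_right q))
  have hRH : ∀ x ∈ R, x ∈ H → x = 1 := fun x hx hxH => orderOf_eq_one_iff.1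
    (Nat.eq_one_of_dvd_coprimes hco (hRc ▸ R.orderOf_dvd_natCard hx) (Z.card_H ▸ H.orderOf_dvd_natCard hxH))
  -- the point stabilizer
  set K : Subgroup G := R ⊔ H with hKdef
  have hK : ∀ x, x ∈ K → ∃ a ∈ R, ∃ h ∈ H, a * h = x := fun x hx => by
    rw [hKdef, ← SetLike.mem_coe, Subgroup.coe_mul_of_right_le_normalizer_left R H hHR] at hx
    obtain ⟨a, ha, h, hh, e⟩ := hx
    exact ⟨a, ha, h, hh, e⟩
  have hKc : Nat.card K = q ^ 3 * (q - 1) := by
    rw [← hRc, ← Z.card_H, ← Nat.card_prod]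
    refine (Nat.card_congr (Equiv.ofBijective
      (fun p : R × H => (⟨(p.1 : G) * p.2, mul_mem (mem_sup_left p.1.2) (mem_sup_right p.2.2)⟩ : K))
      ⟨fun a b h => ?_, fun x => ?_⟩)).symm
    · have h' : (a.1 : G) * a.2 = b.1 * b.2 := congrArg Subtype.val h
      have ee : (b.1 : G)⁻¹ * a.1 = b.2 * (a.2 : G)⁻¹ := by
        rw [eq_mul_inv_iff_mul_eq, mul_assoc, h', inv_mul_cancel_left]
      have h1 : (b.1 : G)⁻¹ * a.1 = 1 :=
        hRH _ (mul_mem (inv_mem b.1.2) a.1.2) (ee ▸ mul_mem b.2.2 (inv_mem a.2.2))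
      refine Prod.ext (Subtype.ext (inv_mul_eq_one.1 h1).symm) (Subtype.ext ?_)
      rw [ee, mul_inv_eq_one] at h1
      exact h1.symm
    · obtain ⟨a, ha, h, hh, e⟩ := hK x x.2
      exact ⟨(⟨a, ha⟩, ⟨h, hh⟩), Subtype.ext e⟩
  have hidx : K.index = q ^ 3 + 1 := by
    have h := K.card_mul_index
    rw [hKc, B.card, show q ^ 3 * (q ^ 3 + 1) * (q - 1) = q ^ 3 * (q - 1) * (q ^ 3 + 1) by ring] at h
    exact Nat.eq_of_mul_eq_mul_left (Nat.mul_pos (pow_pos (by omega) 3) (by omega)) h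
  have hcomm : ∀ a ∈ K, ∀ b ∈ K, a * b * a⁻¹ * b⁻¹ ∈ R := fun a ha b hb => by
    obtain ⟨a1, ha1, h1, hh1, rfl⟩ := hK a ha
    obtain ⟨b1, hb1, h2, hh2, rfl⟩ := hK b hb
    set N := normalizer (R : Set G) with hN
    haveI : (R.subgroupOf N).Normal := normal_in_normalizer
    let A : N := ⟨a1, le_normalizer ha1⟩
    let B' : N := ⟨b1, le_normalizer hb1⟩
    let X : N := ⟨h1, hHR hh1⟩
    let Y : N := ⟨h2, hHR hh2⟩
    have key : A * X * (B' * Y) * (A * X)⁻¹ * (B' * Y)⁻¹ ∈ R.subgroupOf N := by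
      rw [← QuotientGroup.eq_one_iff]
      have eA : (A : N ⧸ R.subgroupOf N) = 1 := (QuotientGroup.eq_one_iff A).2 (mem_subgroupOf.2 ha1)
      have eB : (B' : N ⧸ R.subgroupOf N) = 1 := (QuotientGroup.eq_one_iff B').2 (mem_subgroupOf.2 hb1)
      have eXY : X * Y = Y * X := Subtype.ext (Z.comm h1 hh1 h2 hh2).eq
      simp only [QuotientGroup.mk_mul, QuotientGroup.mk_inv, eA, eB, one_mul]
      rw [← QuotientGroup.mk_mul, eXY, QuotientGroup.mk_mul]
      group
    simpa [A, B', X, Y] using mem_subgroupOf.1 key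
  letI := Fintype.ofFinite R
  have hsum : ∑ x : R, (c : G → ℂ) x ≠ 0 := by
    rw [Finset.sum_eq_single_of_mem (1 : R) (Finset.mem_univ _) fun x _ hx => ?_]
    · exact IsIrrCharacter.apply_one_ne_zero c.2
    obtain ⟨P⟩ := (inferInstance : Nonempty (Sylow 3 G))
    obtain ⟨m, -, hF⟩ := B.q_eq
    have hn : (Nat.card G).factorization 3 = (2 * m + 1) * 3 := by
      refine Nat.pow_right_injective (le_refl 2 |>.trans (by norm_num : 2 ≤ 3)) ?_
      show 3 ^ _ = 3 ^ _
      rw [← P.card_eq_multiplicity, B.card_sylow P, hF, pow_mul]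
    refine eq_zero_of_defect_zero c.2 Nat.prime_three (n := (2 * m + 1) * 3) (hn ▸ Nat.ordProj_dvd _ _)
      (hn ▸ Nat.pow_succ_factorization_not_dvd Nat.card_pos.ne' Nat.prime_three) ?_ ?_
    · rw [hdc, hF, pow_mul]
    · obtain ⟨k, hk⟩ := IsPGroup.iff_orderOf.1 hR x
      rw [Subgroup.orderOf_coe, hk]
      refine dvd_pow_self 3 fun e => hx ?_
      rw [e, pow_zero, orderOf_eq_one_iff] at hk
      exact hk
  have hperf : ∀ f : G →* ℂˣ, f = 1 := by
    haveI := B.simple
    intro f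
    rcases f.normal_ker.eq_bot_or_eq_top with h | h
    · exfalso
      haveI := B.two_comm (Classical.arbitrary _)
      have hc : ∀ a b : G, a * b = b * a := fun a b => (MonoidHom.ker_eq_bot_iff f).1 h (by
        rw [map_mul, map_mul, mul_comm])
      obtain ⟨a, ha, hat⟩ : ∃ a ∈ T, a ≠ 1 := by
        refine (T.bot_or_exists_ne_one).resolve_left fun e => ?_
        rw [e, card_bot] at hTc
        omega
      obtain ⟨x, hx, hx1⟩ := R.bot_or_exists_ne_one.resolve_left fun e => by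
        rw [e, card_bot] at hRc
        have := Nat.le_self_pow (show 3 ≠ 0 by norm_num) q
        omega
      exact hx1 (hRH x hx (Z.cen a (hTH ha) hat (hTt a ha hat) x (hc x a)))
    · exact MonoidHom.ext fun g => MonoidHom.mem_ker.1 (h ▸ mem_top g)
  have hq3 : 27 ≤ q ^ 3 := hq.trans (Nat.le_self_pow three_ne_zero _)
  have h2 := NoTwoTrans.two_trans_of_char hperf (le_sup_left : R ≤ K) hcomm c (by rw [hdc, hidx])
    (by omega) hsum
  refine ⟨R, T, hR, hRc, hTc, hTH.trans hHR, fun a ha ha1 x hx hxa =>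
    hRH x hx (Z.cen a (hTH ha) ha1 (hTt a ha ha1) x hxa), ?_⟩
  haveI : Finite (G ⧸ K) := inferInstance
  letI := Fintype.ofFinite (G ⧸ K)
  refine ⟨G ⧸ K, inferInstance, fun i => i.out, by rw [← Nat.card_eq_fintype_card, ← Subgroup.index_eq_card, hidx],
    fun i j x hx y hy hx1 he => ?_⟩
  by_contra hij
  set g := (Quotient.out j)⁻¹ * Quotient.out i with hg
  have hgK : g ∉ K := fun h => hij (by
    rw [← QuotientGroup.out_eq' i, ← QuotientGroup.out_eq' j]
    exact (QuotientGroup.eq.2 h).symm)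
  have hgx : g * x * g⁻¹ = y := by
    rw [hg, show (Quotient.out j)⁻¹ * Quotient.out i * x * ((Quotient.out j)⁻¹ * Quotient.out i)⁻¹ =
      (Quotient.out j)⁻¹ * (Quotient.out i * x * (Quotient.out i)⁻¹) * Quotient.out j by group, he]
    group
  -- the two point stabilizer
  set p : G ⧸ K := (g : G ⧸ K)
  set D := MulAction.stabilizer K p
  have hne : p ≠ ((1 : G) : G ⧸ K) := fun e => hgK (by
    have h1 := QuotientGroup.eq.1 e
    simpa using h1)
  have horb : MulAction.orbit K p = {((1 : G) : G ⧸ K)}ᶜ := by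
    ext z
    constructor
    · rintro ⟨k, rfl⟩ hz
      refine hne (MulAction.injective (k : G) ?_)
      rw [Set.mem_singleton_iff] at hz
      refine hz.trans ?_
      show ((1 : G) : G ⧸ K) = (((k : G) * 1 : G) : G ⧸ K)
      exact QuotientGroup.eq.2 (by simp [k.2])
    · intro hz
      obtain ⟨k, h1, h3⟩ := MulAction.is_two_pretransitive_iff.1 h2 hne.symm (Ne.symm hz)
      rw [MulAction.Quotient.smul_mk, smul_eq_mul, mul_one] at h1
      have hk : k ∈ K := by simpa using QuotientGroup.eq.1 h1.symm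
      exact ⟨⟨k, hk⟩, h3⟩
  have hD : Nat.card D = q - 1 := by
    have h := D.card_mul_index
    rw [MulAction.index_stabilizer, horb, Set.ncard_compl, Set.ncard_singleton, ← Subgroup.index_eq_card,
      hidx, hKc, Nat.add_sub_cancel, mul_comm (q ^ 3)] at h
    exact Nat.eq_of_mul_eq_mul_right (pow_pos (by omega) 3) h
  have hyK : y ∈ K := mem_sup_left hy
  have hyD : (⟨y, hyK⟩ : K) ∈ D := by
    show (y : G) • p = p
    rw [MulAction.Quotient.smul_mk, smul_eq_mul]
    refine (QuotientGroup.eq.2 ?_)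
    rw [← hgx, show (g * x * g⁻¹ * g)⁻¹ * g = x⁻¹ by group]
    exact inv_mem (mem_sup_left hx)
  have hy1 : y = 1 := by
    refine orderOf_eq_one_iff.1 (Nat.eq_one_of_dvd_coprimes hco (hRc ▸ R.orderOf_dvd_natCard hy) ?_)
    have := D.orderOf_dvd_natCard hyD
    rwa [hD, Subgroup.orderOf_mk] at this
  rw [← hgx] at hy1
  exact hx1 (conj_eq_one_iff.1 hy1)

end Cfsg.Lib.TICyclic
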