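import Cfsg.Agent.Chars.Perm
import Cfsg.Agent.Chars.Count
import Cfsg.Agent.Chars.Construct
import Cfsg.Agent.Chars.IrrTools

/-!
An abelian group of automorphisms acting freely on a 3-group: it acts freely on the nontrivial irreducible
characters, and the invariant subgroups have orders that are powers of one number.
-/

set_option autoImplicit false
set_option linter.unusedSectionVars false
set_option linter.style.haveILetI false

namespace Cfsg.Lib.TICyclic

open Subgroup Cfsg Cfsg.Lib.Chars

universe u

variable {P : Type u} [Group P] [Finite P] {T : Type u} [Group T] [Finite T] (τ : T →* MulAut P)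

/-- The action is free off the identity. -/
def Free : Prop := ∀ a x, τ a x = x → a = 1 ∨ x = 1

/-- The twist of an irreducible character by an automorphism. -/
noncomputable def twist (a : T) (ρ : IrrCharacter P) : IrrCharacter P :=
  ⟨fun x => (ρ : P → ℂ) ((τ a).symm x), IsIrrCharacter.comp_mulEquiv ρ.2 (τ a).symm⟩

theorem twist_apply (a : T) (ρ : IrrCharacter P) (x : P) :
    (twist τ a ρ : P → ℂ) (τ a x) = (ρ : P → ℂ) x := by
  show (ρ : P → ℂ) ((τ a).symm (τ a x)) = _
  rw [MulEquiv.symm_apply_apply]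

/-- The characters as a set with an action. -/
@[reducible]
noncomputable def twistAction : MulAction T (IrrCharacter P) where
  smul := twist τ
  one_smul ρ := Subtype.ext (funext fun x => by
    show (ρ : P → ℂ) ((τ 1).symm x) = _
    rw [map_one]; rfl)
  mul_smul a b ρ := Subtype.ext (funext fun x => by
    show (ρ : P → ℂ) ((τ (a * b)).symm x) = (ρ : P → ℂ) ((τ b).symm ((τ a).symm x))
    rw [map_mul]; rfl)

variable {τ} (hP : IsPGroup 3 P) (hT : ¬ 3 ∣ Nat.card T) (hf : Free τ)
include hP hT hf

/-- A nontrivial automorphism fixes only the principal character. -/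
theorem eq_principal_of_twist {a : T} (ha : a ≠ 1) {ρ : IrrCharacter P} (h : twist τ a ρ = ρ) :
    ρ = principal P := by
  classical
  haveI := Fintype.ofFinite P
  letI := twistAction τ
  obtain ⟨r, hr, hrd⟩ := Nat.exists_prime_and_dvd (mt orderOf_eq_one_iff.1 ha)
  haveI : Fact r.Prime := ⟨hr⟩
  set b := a ^ (orderOf a / r) with hb
  have hbo : orderOf b = r := orderOf_pow_orderOf_div (orderOf_pos a).ne' hrd
  have hb1 : b ≠ 1 := fun e => hr.ne_one (by rw [← hbo, e, orderOf_one])
  have hr3 : r ≠ 3 := fun e => hT (e ▸ hbo ▸ orderOf_dvd_natCard b)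
  have hstab : ∀ n : ℕ, twist τ (a ^ n) ρ = ρ := fun n => pow_mem (show a ∈ MulAction.stabilizer T ρ from h) n
  let π : ConjClasses P ≃ ConjClasses P :=
    { toFun := ConjClasses.map (τ b).toMonoidHom
      invFun := ConjClasses.map (τ b).symm.toMonoidHom
      left_inv := fun C => by
        obtain ⟨x, rfl⟩ := ConjClasses.exists_rep C
        exact congrArg ConjClasses.mk ((τ b).symm_apply_apply x)
      right_inv := fun C => by
        obtain ⟨x, rfl⟩ := ConjClasses.exists_rep C
        exact congrArg ConjClasses.mk ((τ b).apply_symm_apply x) }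
  have hcount := brauer_permutation (G := P) (twist τ b) π fun χ g g' hg => by
    have hg' : IsConj g' (τ b g) := ConjClasses.mk_eq_mk_iff_isConj.1 hg
    rw [classFunction_eq_of_isConj (isClassFunction_irr (twist τ b χ)) hg', twist_apply]
  have hone : Nat.card {C : ConjClasses P // π C = C} ≤ 1 := by
    rw [Finite.card_le_one_iff_subsingleton]
    suffices key : ∀ C, π C = C → C = ConjClasses.mk 1 from
      ⟨fun x y => Subtype.ext ((key _ x.2).trans (key _ y.2).symm)⟩
    intro C hC
    obtain ⟨x, rfl⟩ := ConjClasses.exists_rep C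
    have hx : IsConj x (τ b x) := (ConjClasses.mk_eq_mk_iff_isConj.1 hC).symm
    let S := {y : P // IsConj x y}
    let e : Equiv.Perm S := (τ b).toEquiv.subtypeEquiv fun y => by
      constructor
      · intro hy; exact hx.trans ((τ b).toMonoidHom.map_isConj hy)
      · intro hy
        have h2 := (τ b).symm.toMonoidHom.map_isConj (hx.symm.trans hy)
        simpa using h2
    have her : e ^ r ^ 1 = 1 := by
      refine Equiv.ext fun y => Subtype.ext ?_
      have key : ∀ n : ℕ, (((e ^ n) y : S) : P) = (τ b ^ n) (y : P) := by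
        intro n
        induction n with
        | zero => rfl
        | succ n ih => rw [pow_succ', pow_succ', Equiv.Perm.mul_apply, MulAut.mul_apply, ← ih]; rfl
      rw [key, pow_one, ← map_pow, ← hbo, pow_orderOf_eq_one, map_one]
      rfl
    letI := Fintype.ofFinite S
    have hS : ¬ r ∣ Fintype.card S := by
      intro hd
      have h1 : Nat.card S ∣ Nat.card P := ⟨_, (card_isConj_mul x).symm⟩
      haveI : Fact (Nat.Prime 3) := ⟨Nat.prime_three⟩
      obtain ⟨k, hk⟩ := IsPGroup.iff_card.1 hP
      rw [Nat.card_eq_fintype_card, hk] at h1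
      exact hr3 ((Nat.prime_dvd_prime_iff_eq hr Nat.prime_three).1 (hr.dvd_of_dvd_pow (hd.trans h1)))
    obtain ⟨⟨y, hy⟩, hfix⟩ := Equiv.Perm.exists_fixed_point_of_prime (p := r) (n := 1) hS (σ := e) her
    rcases hf b y (congrArg Subtype.val hfix) with e1 | e1
    · exact absurd e1 hb1
    · exact ConjClasses.mk_eq_mk_iff_isConj.2 (e1 ▸ hy)
  have hprin : twist τ b (principal P) = principal P :=
    Subtype.ext (funext fun x => by
      show (principal P : P → ℂ) ((τ b).symm x) = (principal P : P → ℂ) x
      rfl)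
  have hρb : twist τ b ρ = ρ := hstab _
  rw [← hcount, Finite.card_le_one_iff_subsingleton] at hone
  exact congrArg Subtype.val (hone.elim (⟨ρ, hρb⟩ : {χ // twist τ b χ = χ}) ⟨_, hprin⟩)

/-- An invariant set of nontrivial characters has a multiple of `|T|` elements. -/
theorem dvd_card_of_invariant (S : Finset (IrrCharacter P)) (hS : ∀ a, ∀ ρ ∈ S, twist τ a ρ ∈ S)
    (h1 : principal P ∉ S) : Nat.card T ∣ S.card := by
  classical
  letI := twistAction τ
  let X := {ρ : IrrCharacter P // ρ ∈ S}
  letI : MulAction T X :=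
    { smul := fun a ρ => ⟨a • (ρ : IrrCharacter P), hS a ρ ρ.2⟩
      one_smul := fun ρ => Subtype.ext (one_smul T (ρ : IrrCharacter P))
      mul_smul := fun a b ρ => Subtype.ext (mul_smul a b (ρ : IrrCharacter P)) }
  have hfree : ∀ (a : T) (ρ : X), a • ρ = ρ → a = 1 := fun a ρ h => by
    by_contra ha
    exact h1 (eq_principal_of_twist hP hT hf ha (congrArg Subtype.val h) ▸ ρ.2)
  have hX : Nat.card X = S.card := by simp [X]
  rw [← hX, Nat.card_congr (MulAction.selfEquivSigmaOrbits T X)]
  haveI := Fintype.ofFinite (Quotient (MulAction.orbitRel T X))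
  rw [Nat.card_sigma]
  refine Finset.dvd_sum fun o _ => ?_
  have hst : MulAction.stabilizer T (Quotient.out o : X) = ⊥ :=
    eq_bot_iff.2 fun a ha => mem_bot.2 (hfree a _ ha)
  rw [Nat.card_congr (MulAction.orbitEquivQuotientStabilizer T (Quotient.out o : X)), ← Subgroup.index_eq_card,
    hst, index_bot]

/-- An invariant subgroup has order congruent to one modulo `|T|`. -/
theorem dvd_card_sub_one (M : Subgroup P) (hM : ∀ a, ∀ x ∈ M, τ a x ∈ M) : Nat.card T ∣ Nat.card M - 1 := by
  classical
  haveI := Fintype.ofFinite M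
  let X := {x : M // x ≠ 1}
  letI : MulAction T X :=
    { smul := fun a x => ⟨⟨τ a (x.1 : P), hM a _ x.1.2⟩, fun e => x.2 (Subtype.ext ((τ a).injective
        ((congrArg Subtype.val e).trans (map_one (τ a)).symm)))⟩
      one_smul := fun x => Subtype.ext (Subtype.ext (by show τ 1 (x.1 : P) = _; rw [map_one]; rfl))
      mul_smul := fun a b x => Subtype.ext (Subtype.ext (by
        show τ (a * b) (x.1 : P) = τ a (τ b (x.1 : P))
        rw [map_mul]; rfl)) }
  have hfree : ∀ (a : T) (x : X), a • x = x → a = 1 := fun a x h =>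
    (hf a _ (congrArg (fun z : X => (z.1 : P)) h)).resolve_right fun e => x.2 (Subtype.ext e)
  have hX : Nat.card X = Nat.card M - 1 := by
    rw [Nat.card_eq_fintype_card, Nat.card_eq_fintype_card, Fintype.card_subtype_compl, Fintype.card_subtype_eq]
  rw [← hX, Nat.card_congr (MulAction.selfEquivSigmaOrbits T X)]
  haveI := Fintype.ofFinite (Quotient (MulAction.orbitRel T X))
  rw [Nat.card_sigma]
  refine Finset.dvd_sum fun o _ => ?_
  have hst : MulAction.stabilizer T (Quotient.out o : X) = ⊥ :=
    eq_bot_iff.2 fun a ha => mem_bot.2 (hfree a _ ha)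
  rw [Nat.card_congr (MulAction.orbitEquivQuotientStabilizer T (Quotient.out o : X)), ← Subgroup.index_eq_card,
    hst, index_bot]

omit hP hT hf in
/-- The powers of three congruent to one modulo `(3 ^ N - 1) / 2`. -/
theorem dvd_of_pow_three {N i : ℕ} (hN : 2 ≤ N) (h : (3 ^ N - 1) / 2 ∣ 3 ^ i - 1) : N ∣ i := by
  set A := (3 ^ N - 1) / 2 with hA
  have h9 : 9 ≤ 3 ^ N := le_trans (by norm_num) (Nat.pow_le_pow_right (by norm_num) hN)
  have h2 : 3 ^ N % 2 = 1 := by rw [Nat.pow_mod]; norm_num
  have h3N : 3 ^ N ≡ 1 [MOD A] := ((Nat.modEq_iff_dvd' (Nat.one_le_pow _ _ (by norm_num))).2 ⟨2, by omega⟩).symm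
  have hi : 3 ^ i ≡ 1 [MOD A] := ((Nat.modEq_iff_dvd' (Nat.one_le_pow _ _ (by norm_num))).2 h).symm
  rw [← Nat.mod_add_div i N, pow_add, pow_mul] at hi
  have h1 : 3 ^ (i % N) ≡ 1 [MOD A] := by
    have := ((h3N.pow (i / N)).mul_left (3 ^ (i % N))).symm.trans hi
    simpa using this
  rw [Nat.dvd_iff_mod_eq_zero]
  by_contra hne
  have hd := (Nat.modEq_iff_dvd' (Nat.one_le_pow _ _ (by norm_num))).1 h1.symm
  have hlt : 3 ^ (i % N) * 3 ≤ 3 ^ N := by
    rw [← pow_succ]; exact Nat.pow_le_pow_right (by norm_num) (Nat.mod_lt i (by omega))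
  have hgt : 3 ≤ 3 ^ (i % N) := Nat.le_self_pow hne 3
  have := Nat.le_of_dvd (by omega) hd
  omega

end Cfsg.Lib.TICyclic
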