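import Cfsg.Agent.TICyclic.Kill.ThreeTI
import Cfsg.Agent.TICyclic.Kill.Irr
import Cfsg.Agent.Chars.NDAD.CharBound
import Cfsg.Agent.Chars.NDAD.CentralProd
import Cfsg.Agent.Chars.Values

/-!
A 3-group of order `q³` with a free group of automorphisms of order `(q - 1) / 2` and two invariant characters
of the given degrees and small norms has class three, and then it contains elements of order nine whose cyclic
subgroups are not normalized by the centralizers of their cubes.
-/

set_option autoImplicit false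
set_option linter.unusedSectionVars false
set_option linter.style.haveILetI false

namespace Cfsg.Lib.TICyclic

open Subgroup Cfsg Cfsg.Lib.Chars
open scoped commutatorElement ComplexConjugate

universe u

/-- The elements with all commutators central. -/
def secondCenter (P : Type u) [Group P] : Subgroup P :=
  (center (P ⧸ center P)).comap (QuotientGroup.mk' (center P))

theorem mem_secondCenter {P : Type u} [Group P] {x : P} :
    x ∈ secondCenter P ↔ ∀ g : P, ⁅x, g⁆ ∈ center P := by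
  rw [secondCenter, mem_comap, mem_center_iff]
  constructor
  · intro h g
    have h1 := h (QuotientGroup.mk' (center P) g)
    rw [← QuotientGroup.eq_one_iff, ← QuotientGroup.mk'_apply, map_commutatorElement,
      commutatorElement_eq_one_iff_mul_comm]
    exact h1.symm
  · intro h z
    obtain ⟨g, rfl⟩ := QuotientGroup.mk'_surjective _ z
    have h1 := (QuotientGroup.eq_one_iff _).2 (h g)
    rw [← QuotientGroup.mk'_apply, map_commutatorElement, commutatorElement_eq_one_iff_mul_comm] at h1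
    exact h1.symm

theorem center_le_secondCenter (P : Type u) [Group P] : center P ≤ secondCenter P := fun x hx =>
  mem_secondCenter.2 fun g => by
    rw [commutatorElement_eq_one_iff_mul_comm.2 (mem_center_iff.1 hx g).symm]
    exact one_mem _

theorem map_center {P : Type u} [Group P] (e : MulAut P) {x : P} (hx : x ∈ center P) : e x ∈ center P :=
  mem_center_iff.2 fun g => by
    obtain ⟨g, rfl⟩ := e.surjective g
    rw [← map_mul, ← map_mul, mem_center_iff.1 hx g]

theorem map_secondCenter {P : Type u} [Group P] (e : MulAut P) {x : P} (hx : x ∈ secondCenter P) :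
    e x ∈ secondCenter P := mem_secondCenter.2 fun g => by
  obtain ⟨g, rfl⟩ := e.surjective g
  rw [← map_commutatorElement]
  exact map_center e (mem_secondCenter.1 hx g)

/-- The configuration. -/
structure Counts (q N : ℕ) (P : Type u) [Group P] [Fintype P] {T : Type u} [Group T] [Finite T]
    (τ : T →* MulAut P) : Prop where
  q_eq : q = 3 ^ N
  odd : Odd N
  three_le : 3 ≤ N
  three : IsPGroup 3 P
  card : Nat.card P = q ^ 3
  cardT : Nat.card T = (q - 1) / 2
  free : Free τ

namespace Counts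

variable {q N : ℕ} {P : Type u} [Group P] [Fintype P] {T : Type u} [Group T] [Finite T]
  {τ : T →* MulAut P} (C : Counts q N P τ)
include C

theorem q_ge : 27 ≤ q := C.q_eq ▸ le_trans (by norm_num) (Nat.pow_le_pow_right three_pos C.three_le)

theorem q_mod : q % 4 = 3 := by
  obtain ⟨k, hk⟩ := C.odd
  rw [C.q_eq, hk, pow_succ, pow_mul, Nat.mul_mod, Nat.pow_mod]
  norm_num

theorem not_three_dvd : ¬ 3 ∣ Nat.card T := by
  rw [C.cardT]
  have h3 : 3 ∣ q := C.q_eq ▸ dvd_pow_self 3 (by have := C.three_le; omega)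
  have := C.q_ge
  omega

theorem dvd_sum (S : Finset (IrrCharacter P)) (hS : ∀ a, ∀ ρ ∈ S, twist τ a ρ ∈ S) (h1 : principal P ∉ S)
    (f : IrrCharacter P → ℕ) (hf : ∀ a ρ, f (twist τ a ρ) = f ρ) : (q - 1) / 2 ∣ ∑ ρ ∈ S, f ρ := by
  classical
  rw [← Finset.sum_fiberwise_of_maps_to (g := f) (t := S.image f) fun x hx => Finset.mem_image_of_mem f hx]
  refine Finset.dvd_sum fun v _ => ?_
  rw [Finset.sum_congr rfl fun ρ hρ => (Finset.mem_filter.1 hρ).2, Finset.sum_const, smul_eq_mul]
  refine Dvd.dvd.mul_right (C.cardT ▸ dvd_card_of_invariant C.three C.not_three_dvd C.free _ (fun a ρ hρ => ?_)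
    fun h => h1 (Finset.mem_filter.1 h).1) v
  rw [Finset.mem_filter] at hρ ⊢
  exact ⟨hS a ρ hρ.1, (hf a ρ).trans hρ.2⟩

theorem card_eq_pow (M : Subgroup P) (hM : ∀ a, ∀ x ∈ M, τ a x ∈ M) :
    Nat.card M = 1 ∨ Nat.card M = q ∨ Nat.card M = q ^ 2 ∨ Nat.card M = q ^ 3 := by
  haveI : Fact (Nat.Prime 3) := ⟨Nat.prime_three⟩
  obtain ⟨i, hi⟩ := IsPGroup.iff_card.1 (C.three.to_subgroup M)
  have h := dvd_card_sub_one C.three C.not_three_dvd C.free M hM
  rw [C.cardT, hi, C.q_eq] at h
  obtain ⟨k, rfl⟩ := dvd_of_pow_three (by have := C.three_le; omega) h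
  rw [pow_mul, ← C.q_eq] at hi
  have hk : k ≤ 3 := by
    by_contra hlt
    have h1 := card_le_card_group M
    rw [hi, C.card] at h1
    exact absurd h1 (not_le.2 (Nat.pow_lt_pow_right (by have := C.q_ge; omega) (by omega)))
  rw [hi]
  interval_cases k <;> simp

theorem center_card_ge : q ≤ Nat.card (center P) := by
  haveI : Fact (Nat.Prime 3) := ⟨Nat.prime_three⟩
  have hq := C.q_ge
  haveI : Nontrivial P := Finite.one_lt_card_iff_nontrivial.1 (by
    rw [C.card]; exact lt_of_lt_of_le (by omega) (Nat.le_self_pow (by norm_num) q))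
  have h1 : 1 < Nat.card (center P) :=
    Finite.one_lt_card_iff_nontrivial.2 (C.three.center_nontrivial)
  rcases C.card_eq_pow (center P) (fun a x hx => map_center _ hx) with h | h | h | h <;> rw [h] at h1 ⊢
  · omega
  · exact Nat.le_self_pow two_ne_zero q
  · exact Nat.le_self_pow three_ne_zero q

theorem deg_cases (ρ : IrrCharacter P) : deg (ρ : P → ℂ) = q ∨ 3 * deg (ρ : P → ℂ) ≤ q := by
  have h := NDAD.deg_sq_mul_card_le_index ρ.2 (⊤ : Subgroup P) (center P) le_top fun a ha u _ => by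
    rw [commutatorElement_eq_one_iff_mul_comm.2 (mem_center_iff.1 ha u).symm]
  rw [index_top, one_mul, C.card] at h
  have hle : deg (ρ : P → ℂ) ≤ q := by
    by_contra hlt
    have h1 : (q + 1) ^ 2 * q ≤ q ^ 3 :=
      le_trans (Nat.mul_le_mul (Nat.pow_le_pow_left (by omega) 2) C.center_card_ge) h
    nlinarith [C.q_ge]
  obtain ⟨j, hj1, hj⟩ := (Nat.dvd_prime_pow Nat.prime_three).1 (show deg (ρ : P → ℂ) ∣ 3 ^ (N * 3) by
    rw [pow_mul, ← C.q_eq, ← C.card]; exact IsIrrCharacter.deg_dvd ρ.2)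
  rcases lt_or_ge j N with h2 | h2
  · right
    rw [hj, C.q_eq, ← pow_succ']
    exact Nat.pow_le_pow_right (by norm_num) (by omega)
  · left
    refine le_antisymm hle ?_
    rw [hj, C.q_eq]
    exact Nat.pow_le_pow_right (by norm_num) h2

theorem deg_twist (a : T) (ρ : IrrCharacter P) : deg (twist τ a ρ : P → ℂ) = deg (ρ : P → ℂ) := by
  apply Nat.cast_injective (R := ℂ)
  rw [← irr_apply_one_eq_deg, ← irr_apply_one_eq_deg]
  show (ρ : P → ℂ) ((τ a).symm 1) = _
  rw [map_one]

omit C in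
theorem deg_principal : deg ((principal P : IrrCharacter P) : P → ℂ) = 1 := by
  apply Nat.cast_injective (R := ℂ)
  rw [← irr_apply_one_eq_deg, Nat.cast_one]
  rfl

omit C in
theorem twist_ne_principal {a : T} {ρ : IrrCharacter P} (h : ρ ≠ principal P) : twist τ a ρ ≠ principal P := by
  intro e
  refine h (Subtype.ext (funext fun x => ?_))
  rw [← twist_apply τ a ρ x, e]
  rfl

/-- The first count. -/
theorem exists_many (m : IrrCharacter P → ℕ) (hinv : ∀ a ρ, m (twist τ a ρ) = m ρ) {d : ℕ}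
    (hd : d = ∑ ρ, m ρ * deg (ρ : P → ℂ)) (hd1 : d + q = q ^ 2 + 1)
    (hn : q ^ 3 * ∑ ρ, m ρ ^ 2 < q ^ 3 * (q - 1) + d ^ 2) :
    ∃ S : Finset (IrrCharacter P), q - 1 ≤ S.card ∧ ∀ ρ ∈ S, deg (ρ : P → ℂ) = q := by
  classical
  have hq := C.q_ge
  have hqm := C.q_mod
  set A := (q - 1) / 2 with hA
  have hTA : Nat.card T = A := C.cardT
  set p := principal P
  have hd' : d = 2 * q * A + 1 := by
    have h1 : 2 * A + 1 = q := by omega
    have : d + q = q * (2 * A + 1) + 1 := by rw [h1, hd1, pow_two]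
    linarith
  have hnorm : ∑ ρ, m ρ ^ 2 ≤ 4 * A - 1 := by
    have h1 : d ^ 2 < q ^ 3 * (q - 1) := by
      rw [show q - 1 = 2 * A by omega, hd']
      have h2 : 2 * A + 1 = q := by omega
      nlinarith
    have h3 : q ^ 3 * ∑ ρ, m ρ ^ 2 < q ^ 3 * (4 * A) := by
      rw [show 4 * A = (q - 1) + (q - 1) by omega, mul_add]; omega
    have := Nat.lt_of_mul_lt_mul_left h3
    omega
  set U := (Finset.univ.erase p).filter fun ρ => m ρ ≠ 0 with hU
  have hUinv : ∀ a, ∀ ρ ∈ U, twist τ a ρ ∈ U := fun a ρ hρ => by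
    simp only [hU, Finset.mem_filter, Finset.mem_erase, Finset.mem_univ, and_true] at hρ ⊢
    exact ⟨twist_ne_principal hρ.1, by rw [hinv]; exact hρ.2⟩
  have hpU : p ∉ U := by simp [hU]
  have hsplit : ∀ f : IrrCharacter P → ℕ, (∀ ρ, m ρ = 0 → f ρ = 0) → ∑ ρ, f ρ = f p + ∑ ρ ∈ U, f ρ := fun f hf => by
    rw [← Finset.add_sum_erase _ _ (Finset.mem_univ p)]
    refine congrArg _ (Finset.sum_subset (Finset.filter_subset _ _) fun ρ hρ hρU => hf ρ ?_).symm
    by_contra h
    exact hρU (Finset.mem_filter.2 ⟨hρ, h⟩)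
  have e1 := hsplit (fun ρ => m ρ * deg (ρ : P → ℂ)) fun ρ h => by simp [h]
  have e2 := hsplit (fun ρ => m ρ ^ 2) fun ρ h => by simp [h]
  simp only [← hd] at e1
  rw [show deg ((p : IrrCharacter P) : P → ℂ) = 1 from deg_principal, mul_one] at e1
  have hdiv := C.dvd_sum U hUinv hpU (fun ρ => m ρ * deg (ρ : P → ℂ)) fun a ρ => by rw [hinv, C.deg_twist]
  obtain ⟨c, hc⟩ := hdiv
  rw [hc] at e1
  rw [e2] at hnorm
  have hp1 : m p = 1 := by
    have h1 : m p % A = 1 % A := by
      have h2 : (m p + A * c) % A = (2 * q * A + 1) % A := by rw [← e1, hd']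
      rwa [Nat.add_mul_mod_self_left, Nat.add_comm, Nat.add_mul_mod_self_right] at h2
    have hA13 : 13 ≤ A := by omega
    by_contra hne
    rw [Nat.one_mod_eq_one.2 (by omega)] at h1
    have hge : A + 1 ≤ m p := by
      rcases lt_or_ge (m p) A with h2 | h2
      · rw [Nat.mod_eq_of_lt h2] at h1; exact absurd h1 hne
      · rcases eq_or_lt_of_le h2 with h3 | h3
        · rw [← h3, Nat.mod_self] at h1; omega
        · omega
    have : (A + 1) ^ 2 ≤ m p ^ 2 := Nat.pow_le_pow_left hge 2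
    have : 14 * (A + 1) ≤ (A + 1) ^ 2 := by rw [pow_two]; exact Nat.mul_le_mul_right _ (by omega)
    omega
  rw [hp1] at e1 hnorm
  have hone : ∀ ρ ∈ U, m ρ = 1 := by
    intro ρ hρ
    by_contra hne
    set V := U.filter fun σ => m σ ≠ 1 with hV
    have hVc : A ∣ V.card := hTA ▸ dvd_card_of_invariant C.three C.not_three_dvd C.free V (fun a σ hσ => by
      simp only [hV, Finset.mem_filter] at hσ ⊢
      exact ⟨hUinv a σ hσ.1, by rw [hinv]; exact hσ.2⟩) fun h => hpU (Finset.mem_filter.1 h).1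
    have hVp : 0 < V.card := Finset.card_pos.2 ⟨ρ, Finset.mem_filter.2 ⟨hρ, hne⟩⟩
    have h1 : V.card * 4 ≤ ∑ σ ∈ U, m σ ^ 2 := by
      refine le_trans ?_ (Finset.sum_le_sum_of_subset (Finset.filter_subset (fun σ => m σ ≠ 1) U))
      rw [← smul_eq_mul, ← hV]
      refine Finset.card_nsmul_le_sum _ _ _ fun σ hσ => ?_
      have h2 : 2 ≤ m σ := by
        simp only [hV, hU, Finset.mem_filter] at hσ
        omega
      exact le_trans (by norm_num) (Nat.pow_le_pow_left h2 2)
    have := Nat.le_of_dvd hVp hVc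
    omega
  have hUc : U.card ≤ 3 * A := by
    have h1 : ∑ ρ ∈ U, m ρ ^ 2 = U.card := by
      rw [Finset.card_eq_sum_ones]
      exact Finset.sum_congr rfl fun ρ hρ => by rw [hone ρ hρ, one_pow]
    obtain ⟨k, hk⟩ : A ∣ U.card := hTA ▸ dvd_card_of_invariant C.three C.not_three_dvd C.free U hUinv hpU
    rw [h1, hk] at hnorm
    rw [hk]
    rcases Nat.lt_or_ge k 4 with h2 | h2
    · exact (Nat.mul_le_mul_left A (show k ≤ 3 by omega)).trans (le_of_eq (mul_comm _ _))
    · have := Nat.mul_le_mul_left A h2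
      omega
  set Q := U.filter fun ρ : IrrCharacter P => deg (ρ : P → ℂ) = q with hQ
  refine ⟨Q, ?_, fun ρ hρ => (Finset.mem_filter.1 hρ).2⟩
  obtain ⟨j, hj⟩ : A ∣ Q.card := hTA ▸ dvd_card_of_invariant C.three C.not_three_dvd C.free Q (fun a σ hσ => by
    simp only [hQ, Finset.mem_filter] at hσ ⊢
    exact ⟨hUinv a σ hσ.1, by rw [C.deg_twist]; exact hσ.2⟩) fun h => hpU (Finset.mem_filter.1 h).1
  have hsum : ∑ ρ ∈ U, deg (ρ : P → ℂ) = 2 * q * A := by
    have h1 : ∑ ρ ∈ U, m ρ * deg (ρ : P → ℂ) = ∑ ρ ∈ U, deg (ρ : P → ℂ) :=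
      Finset.sum_congr rfl fun ρ hρ => by rw [hone ρ hρ, one_mul]
    rw [← h1, hc]
    omega
  have hbound : 3 * ∑ ρ ∈ U, deg (ρ : P → ℂ) ≤ 3 * q * Q.card + q * (U.filter fun ρ : IrrCharacter P => ¬ deg (ρ : P → ℂ) = q).card := by
    rw [← Finset.sum_filter_add_sum_filter_not U (fun ρ : IrrCharacter P => deg (ρ : P → ℂ) = q), mul_add, ← hQ]
    refine Nat.add_le_add ?_ ?_
    · rw [Finset.sum_congr rfl fun ρ hρ => (Finset.mem_filter.1 hρ).2, Finset.sum_const, smul_eq_mul]
      exact le_of_eq (by ring)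
    · rw [Finset.mul_sum, mul_comm q, ← smul_eq_mul (a := Finset.card _)]
      refine Finset.sum_le_card_nsmul _ _ _ fun ρ hρ => ?_
      exact (C.deg_cases ρ).resolve_left (Finset.mem_filter.1 hρ).2
  have hpart := Finset.card_filter_add_card_filter_not (s := U) (fun ρ : IrrCharacter P => deg (ρ : P → ℂ) = q)
  rw [← hQ] at hpart
  rw [hsum] at hbound
  have h6 : q * (6 * A) ≤ q * (3 * Q.card + (U.filter fun ρ : IrrCharacter P => ¬ deg (ρ : P → ℂ) = q).card) := by
    linarith
  have h7 := Nat.le_of_mul_le_mul_left h6 (by omega)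
  rw [hj] at h7 hpart ⊢
  rcases Nat.lt_or_ge j 2 with h2 | h2
  · have := Nat.mul_le_mul_left A (show j ≤ 1 by omega)
    omega
  · have := Nat.mul_le_mul_left A h2
    omega

/-- Facts on the characters of degree `q`. -/
theorem ramified {ρ : IrrCharacter P} (hρ : deg (ρ : P → ℂ) = q) :
    Nat.card (center P) = q ∧ (∀ x, x ∉ center P → (ρ : P → ℂ) x = 0) ∧
      ∃ l : center P →* ℂˣ, l ≠ 1 ∧ ∀ z : center P, (ρ : P → ℂ) z = (q : ℂ) * (l z : ℂ) := by
  classical
  have hq := C.q_ge
  have hZ : Nat.card (center P) = q := by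
    refine le_antisymm ?_ C.center_card_ge
    have h := NDAD.deg_sq_mul_card_le_index ρ.2 (⊤ : Subgroup P) (center P) le_top fun a ha u _ => by
      rw [commutatorElement_eq_one_iff_mul_comm.2 (mem_center_iff.1 ha u).symm]
    rw [index_top, one_mul, C.card, hρ, show q ^ 3 = q ^ 2 * q by ring] at h
    exact Nat.le_of_mul_le_mul_left h (by positivity)
  obtain ⟨l, hl⟩ := NDAD.exists_central_hom ρ.2 (center P) fun z hz x => mem_center_iff.1 hz x
  have hval : ∀ z : center P, (ρ : P → ℂ) z = (q : ℂ) * (l z : ℂ) := fun z => by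
    rw [hl, irr_apply_one_eq_deg, hρ]
  have hnl : ∀ z : center P, ‖(ρ : P → ℂ) z‖ ^ 2 = (q : ℝ) ^ 2 := fun z => by
    have h1 : ‖(l z : ℂ)‖ = 1 := by
      refine Complex.norm_eq_one_of_pow_eq_one (n := Nat.card (center P)) ?_ Nat.card_pos.ne'
      rw [← Units.val_pow_eq_pow_val, ← map_pow, pow_card_eq_one', map_one, Units.val_one]
    rw [hval, norm_mul, h1, mul_one, Complex.norm_natCast]
  have htot : ∑ x : P, ‖(ρ : P → ℂ) x‖ ^ 2 = (q : ℝ) ^ 3 := by
    have h := classInner_self (ρ : P → ℂ)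
    rw [classInner_irr_self] at h
    have h3 := Complex.ofReal_injective (h.symm.trans Complex.ofReal_one.symm)
    rw [C.card] at h3
    have hq0 : ((q ^ 3 : ℕ) : ℝ) ≠ 0 := by positivity
    field_simp at h3
    push_cast at h3
    linarith
  have hvan : ∀ x, x ∉ center P → (ρ : P → ℂ) x = 0 := by
    intro x hx
    have hsplit := Finset.sum_filter_add_sum_filter_not Finset.univ (fun x => x ∈ center P)
      fun x => ‖(ρ : P → ℂ) x‖ ^ 2
    have hin : ∑ x ∈ Finset.univ.filter (fun x => x ∈ center P), ‖(ρ : P → ℂ) x‖ ^ 2 = (q : ℝ) ^ 3 := by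
      rw [Finset.sum_subtype (p := fun x => x ∈ center P) (Finset.univ.filter fun x => x ∈ center P)
        (fun x => by simp), Finset.sum_congr rfl fun z _ => hnl z, Finset.sum_const, Finset.card_univ,
        ← Nat.card_eq_fintype_card, hZ, nsmul_eq_mul]
      ring
    rw [hin, htot] at hsplit
    have h0 : ∑ x ∈ Finset.univ.filter (fun x => ¬ x ∈ center P), ‖(ρ : P → ℂ) x‖ ^ 2 = 0 := by linarith
    have h1 := (Finset.sum_eq_zero_iff_of_nonneg fun _ _ => by positivity).1 h0 x (by simp [hx])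
    simpa using h1
  refine ⟨hZ, hvan, l, fun e => ?_, hval⟩
  have hne : ρ ≠ principal P := fun e' => by rw [e', deg_principal] at hρ; omega
  have h := classInner_irr_ne hne
  rw [classInner_def, ← Finset.sum_filter_add_sum_filter_not Finset.univ (fun x => x ∈ center P),
    Finset.sum_subtype (p := fun x => x ∈ center P) (Finset.univ.filter fun x => x ∈ center P) (fun x => by simp),
    Finset.sum_eq_zero (s := Finset.univ.filter fun x => ¬ x ∈ center P) (fun x hx => by
      rw [hvan x (Finset.mem_filter.1 hx).2, zero_mul]),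
    Finset.sum_congr rfl (g := fun _ => (q : ℂ)) fun z _ => by
      rw [hval, e]; simp [principal],
    Finset.sum_const, Finset.card_univ, add_zero, ← Nat.card_eq_fintype_card, hZ, C.card, nsmul_eq_mul] at h
  have : (q : ℂ) ≠ 0 := by exact_mod_cast (show q ≠ 0 by omega)
  simp [this] at h

/-- There is a character of degree `q` over every nontrivial character of the center. -/
theorem spectrum (S : Finset (IrrCharacter P)) (hS : q - 1 ≤ S.card) (hdeg : ∀ ρ ∈ S, deg (ρ : P → ℂ) = q) :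
    Nat.card (center P) = q ∧
    (∀ l : center P →* ℂˣ, l ≠ 1 → ∃ ρ : IrrCharacter P, deg (ρ : P → ℂ) = q ∧
      ∀ z : center P, (ρ : P → ℂ) z = (q : ℂ) * (l z : ℂ)) ∧
    (Finset.univ.filter fun ρ : IrrCharacter P => deg (ρ : P → ℂ) = q).card ≤ q - 1 ∧
    ∀ ρ : IrrCharacter P, deg (ρ : P → ℂ) ≠ q → ∀ z ∈ center P, (ρ : P → ℂ) z = (ρ : P → ℂ) 1 := by
  classical
  have hq := C.q_ge
  letI : CommGroup (center P) := IsMulCommutative.instCommGroup
  obtain ⟨ρ₀, hρ₀⟩ : S.Nonempty := Finset.card_pos.1 (by omega)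
  have hZ := (C.ramified (hdeg ρ₀ hρ₀)).1
  let Q := {ρ : IrrCharacter P // deg (ρ : P → ℂ) = q}
  let L := {l : center P →* ℂˣ // l ≠ 1}
  let f : Q → L := fun ρ => ⟨(C.ramified ρ.2).2.2.choose, (C.ramified ρ.2).2.2.choose_spec.1⟩
  have hf : ∀ (ρ : Q) (z : center P), (ρ.1 : P → ℂ) z = (q : ℂ) * ((f ρ).1 z : ℂ) := fun ρ =>
    (C.ramified ρ.2).2.2.choose_spec.2
  haveI : Finite (center P →* ℂˣ) :=
    Finite.of_equiv _ (CommGroup.monoidHom_mulEquiv_of_hasEnoughRootsOfUnity (center P) ℂ).some.toEquiv.symm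
  letI := Fintype.ofFinite (center P →* ℂˣ)
  have hinj : Function.Injective f := fun a b e => Subtype.ext (Subtype.ext (funext fun x => by
    by_cases hx : x ∈ center P
    · rw [hf a ⟨x, hx⟩, hf b ⟨x, hx⟩, e]
    · rw [(C.ramified a.2).2.1 x hx, (C.ramified b.2).2.1 x hx]))
  have hL : Nat.card L = q - 1 := by
    rw [Nat.card_eq_fintype_card, Fintype.card_subtype_compl, Fintype.card_subtype_eq, ← Nat.card_eq_fintype_card,
      Nat.card_congr (CommGroup.monoidHom_mulEquiv_of_hasEnoughRootsOfUnity (center P) ℂ).some.toEquiv, hZ]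
  have hQ : Nat.card Q = (Finset.univ.filter fun ρ : IrrCharacter P => deg (ρ : P → ℂ) = q).card := by
    rw [Nat.card_eq_fintype_card, Fintype.card_subtype]
  have hle : Nat.card Q ≤ q - 1 := hL ▸ Nat.card_le_card_of_injective f hinj
  have hge : q - 1 ≤ Nat.card Q := by
    rw [hQ]
    exact hS.trans (Finset.card_le_card fun ρ hρ => Finset.mem_filter.2 ⟨Finset.mem_univ _, hdeg ρ hρ⟩)
  have hbij : Function.Bijective f := hinj.bijective_of_nat_card_le (by rw [hL]; exact hge)
  refine ⟨hZ, fun l hl => ?_, hQ ▸ hle, fun ρ hρ z hz => ?_⟩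
  · obtain ⟨ρ, hρ⟩ := hbij.2 ⟨l, hl⟩
    exact ⟨ρ.1, ρ.2, fun w => by rw [hf ρ w, hρ]⟩
  obtain ⟨l, hl⟩ := NDAD.exists_central_hom ρ.2 (center P) fun z hz x => mem_center_iff.1 hz x
  by_cases hl1 : l = 1
  · rw [hl ⟨z, hz⟩, hl1]; simp
  exfalso
  obtain ⟨σ, hσ⟩ := hbij.2 ⟨l, hl1⟩
  have hne : ρ ≠ σ.1 := fun e => hρ (e ▸ σ.2)
  have h := classInner_irr_ne hne
  rw [classInner_def, ← Finset.sum_filter_add_sum_filter_not Finset.univ (fun x => x ∈ center P),
    Finset.sum_subtype (p := fun x => x ∈ center P) (Finset.univ.filter fun x => x ∈ center P) (fun x => by simp),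
    Finset.sum_eq_zero (s := Finset.univ.filter fun x => ¬ x ∈ center P) (fun x hx => by
      rw [(C.ramified σ.2).2.1 x (Finset.mem_filter.1 hx).2, map_zero, mul_zero]),
    Finset.sum_congr rfl (g := fun _ => (ρ : P → ℂ) 1 * (q : ℂ)) fun w _ => by
      rw [hl w, hf σ w, hσ, map_mul, Complex.conj_natCast]
      have h1 : (l w : ℂ) * conj (l w : ℂ) = 1 := by
        rw [Complex.mul_conj, Complex.normSq_eq_norm_sq,
          Complex.norm_eq_one_of_pow_eq_one (n := Nat.card (center P)) (by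
            rw [← Units.val_pow_eq_pow_val, ← map_pow, pow_card_eq_one', map_one, Units.val_one])
            Nat.card_pos.ne']
        simp
      linear_combination ((ρ : P → ℂ) 1 * q) * h1,
    Finset.sum_const, Finset.card_univ, add_zero, ← Nat.card_eq_fintype_card, hZ, C.card, nsmul_eq_mul] at h
  have : (q : ℂ) ≠ 0 := by exact_mod_cast (show q ≠ 0 by omega)
  simp [this, IsIrrCharacter.apply_one_ne_zero ρ.2] at h

/-- The second count excludes class two. -/
theorem false_of_class_two (hab : ∀ x g : P, ⁅x, g⁆ ∈ center P) (S : Finset (IrrCharacter P))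
    (hS : q - 1 ≤ S.card) (hdeg : ∀ ρ ∈ S, deg (ρ : P → ℂ) = q) (m : IrrCharacter P → ℕ)
    (hinv : ∀ a ρ, m (twist τ a ρ) = m ρ) {d n : ℕ} (hd : d = ∑ ρ, m ρ * deg (ρ : P → ℂ)) (hqn : q = 3 * n ^ 2)
    (hdn : d = n * ((q - 1) / 2) * (q + 1) + q * ((q - 1) / 2) ∨
      d + q * ((q - 1) / 2) = n * ((q - 1) / 2) * (q + 1))
    (hnorm : q ^ 3 * ∑ ρ, m ρ ^ 2 < q ^ 3 * (q - 1) + d ^ 2) : False := by
  classical
  have hq := C.q_ge
  have hqm := C.q_mod
  set A := (q - 1) / 2 with hA
  have hTA : Nat.card T = A := C.cardT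
  obtain ⟨-, -, hcount, hcen⟩ := C.spectrum S hS hdeg
  have hlin : ∀ ρ : IrrCharacter P, deg (ρ : P → ℂ) ≠ q → deg (ρ : P → ℂ) = 1 := fun ρ hρ => by
    have h := NDAD.deg_sq_mul_card_le_index ρ.2 (⊤ : Subgroup P) ⊤ le_rfl fun a _ u _ => hcen ρ hρ _ (hab a u)
    rw [index_top, one_mul, card_top] at h
    rw [← one_mul (Nat.card P), ← mul_assoc, mul_one] at h
    have h1 : deg (ρ : P → ℂ) ^ 2 ≤ 1 := Nat.le_of_mul_le_mul_right h Nat.card_pos
    have := deg_irr_pos ρ
    have := Nat.le_self_pow two_ne_zero (deg (ρ : P → ℂ))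
    omega
  set p := principal P
  set Qs := Finset.univ.filter (fun ρ : IrrCharacter P => deg (ρ : P → ℂ) = q) with hQs
  set Ls := ((Finset.univ.filter fun ρ : IrrCharacter P => ¬ deg (ρ : P → ℂ) = q).erase p).filter
    (fun ρ => m ρ ≠ 0) with hLs
  have hpmem : p ∈ Finset.univ.filter fun ρ : IrrCharacter P => ¬ deg (ρ : P → ℂ) = q := by
    simp only [Finset.mem_filter, Finset.mem_univ, true_and, p, deg_principal]; omega
  have hsplit : ∀ f : IrrCharacter P → ℕ, (∀ ρ, m ρ = 0 → f ρ = 0) →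
      ∑ ρ, f ρ = (∑ ρ ∈ Qs, f ρ) + (f p + ∑ ρ ∈ Ls, f ρ) := fun f hf => by
    rw [← Finset.sum_filter_add_sum_filter_not Finset.univ (fun ρ : IrrCharacter P => deg (ρ : P → ℂ) = q), ← hQs,
      ← Finset.add_sum_erase _ _ hpmem]
    refine congrArg _ (congrArg _ (Finset.sum_subset (Finset.filter_subset _ _) fun ρ hρ hρL => hf ρ ?_).symm)
    by_contra h
    exact hρL (Finset.mem_filter.2 ⟨hρ, h⟩)
  have e1 := hsplit (fun ρ => m ρ * deg (ρ : P → ℂ)) fun ρ h => by simp [h]
  have e2 := hsplit (fun ρ => m ρ ^ 2) fun ρ h => by simp [h]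
  simp only [← hd] at e1
  set X := ∑ ρ ∈ Qs, m ρ with hX
  set W := ∑ ρ ∈ Qs, m ρ ^ 2 with hW
  set S₁ := ∑ ρ ∈ Ls, m ρ with hS₁
  set L₁ := ∑ ρ ∈ Ls, m ρ ^ 2 with hL₁
  have hQd : ∑ ρ ∈ Qs, m ρ * deg (ρ : P → ℂ) = q * X := by
    rw [hX, Finset.mul_sum]
    exact Finset.sum_congr rfl fun ρ hρ => by rw [(Finset.mem_filter.1 hρ).2, mul_comm]
  have hLd : ∑ ρ ∈ Ls, m ρ * deg (ρ : P → ℂ) = S₁ := Finset.sum_congr rfl fun ρ hρ => by
    rw [hlin ρ (by
      have h1 := Finset.mem_of_mem_erase (Finset.mem_filter.1 hρ).1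
      exact (Finset.mem_filter.1 h1).2), mul_one]
  rw [hQd, hLd, show deg ((p : IrrCharacter P) : P → ℂ) = 1 from deg_principal, mul_one] at e1
  rw [e2] at hnorm
  have hCS : X ^ 2 ≤ (q - 1) * W :=
    (sq_sum_le_card_mul_sum_sq (s := Qs) (f := m)).trans (Nat.mul_le_mul_right _ hcount)
  have hSL : S₁ ≤ L₁ := Finset.sum_le_sum fun ρ _ => Nat.le_self_pow two_ne_zero _
  set S₀ := m p + S₁ with hS₀
  set L₀ := m p ^ 2 + L₁ with hL₀
  have hSL0 : S₀ ≤ L₀ := Nat.add_le_add (Nat.le_self_pow two_ne_zero _) hSL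
  -- the inequality
  have hqA : (q : ℤ) = 2 * A + 1 := by omega
  have hn3 : 3 ≤ n := by
    by_contra h
    have := Nat.pow_le_pow_left (show n ≤ 2 by omega) 2
    omega
  have hnormZ : (q : ℤ) ^ 3 * (W + L₀) < q ^ 3 * (2 * A) + d ^ 2 := by
    have h : q ^ 3 * (W + L₀) < q ^ 3 * (2 * A) + d ^ 2 := by
      rwa [show 2 * A = q - 1 by omega]
    exact_mod_cast h
  have hdZ : (d : ℤ) = q * X + S₀ := by rw [e1]; push_cast [S₀]; ring
  have hCSZ : (X : ℤ) ^ 2 ≤ 2 * A * W := by
    have h : X ^ 2 ≤ 2 * A * W := by rwa [show 2 * A = q - 1 by omega]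
    exact_mod_cast h
  have hqpos : (0 : ℤ) < q := by omega
  have hmain : (q : ℤ) ^ 2 * L₀ - (S₀ : ℤ) ^ 2 < q ^ 2 * (2 * A) := by
    have h1 : (q : ℤ) * (2 * A) * ((q : ℤ) ^ 2 * L₀ - (S₀ : ℤ) ^ 2) < (q : ℤ) * (2 * A) * (q ^ 2 * (2 * A)) := by
      have h2 := mul_lt_mul_of_pos_left hnormZ (show (0 : ℤ) < 2 * A by omega)
      have h3 := mul_le_mul_of_nonneg_left hCSZ (show (0 : ℤ) ≤ (q : ℤ) ^ 3 by positivity)
      rw [hdZ] at h2
      have h4 : (q : ℤ) ^ 3 * (X : ℤ) ^ 2 = 2 * A * (q ^ 2 * (X : ℤ) ^ 2) + q ^ 2 * (X : ℤ) ^ 2 := by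
        linear_combination (q : ℤ) ^ 2 * (X : ℤ) ^ 2 * hqA
      have h5 : 2 * (A : ℤ) * (q * (S₀ : ℤ) ^ 2) = 4 * (A : ℤ) ^ 2 * (S₀ : ℤ) ^ 2 + 2 * A * (S₀ : ℤ) ^ 2 := by
        linear_combination 2 * (A : ℤ) * (S₀ : ℤ) ^ 2 * hqA
      linear_combination h2 + h3 + sq_nonneg ((q : ℤ) * X - 2 * A * S₀) - h4 - h5
    exact lt_of_mul_lt_mul_left h1 (by positivity)
  have hd2 : 2 * d ≤ q * (q + n * (q + 1)) := by
    have h1 : d ≤ n * A * (q + 1) + q * A := by rcases hdn with h | h <;> omega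
    have h2 : 2 * (n * A * (q + 1) + q * A) ≤ q * (q + n * (q + 1)) := by
      rw [show 2 * (n * A * (q + 1) + q * A) = (2 * A) * (q + n * (q + 1)) by ring]
      exact Nat.mul_le_mul_right _ (by omega)
    omega
  have hL2 : 2 * (L₀ : ℤ) < q ^ 2 := by
    have hW0 : (0 : ℤ) ≤ W := by positivity
    have h1 : (q : ℤ) ^ 3 * L₀ < q ^ 3 * (2 * A) + d ^ 2 := by nlinarith [pow_pos hqpos 3]
    have h2 : 2 * (d : ℤ) ≤ q * (q + n * (q + 1)) := by exact_mod_cast hd2
    have hn2 : 3 * (n : ℤ) ^ 2 = q := by exact_mod_cast hqn.symm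
    have h3 : 4 * (d : ℤ) ^ 2 ≤ q ^ 2 * (q + n * (q + 1)) ^ 2 := by
      have := pow_le_pow_left₀ (by positivity) h2 2
      nlinarith
    have h4 : ((q : ℤ) + n * (q + 1)) ^ 2 ≤ 2 * q ^ 2 + 2 * (n : ℤ) ^ 2 * (q + 1) ^ 2 := by
      nlinarith [sq_nonneg ((q : ℤ) - n * (q + 1))]
    have hq27 : (27 : ℤ) ≤ q := by exact_mod_cast hq
    have h5 : 3 * (((q : ℤ) + n * (q + 1)) ^ 2) ≤ 6 * q ^ 2 + 2 * q * (q + 1) ^ 2 := by nlinarith
    have h6 : (q : ℤ) ^ 3 * (12 * L₀) < q ^ 3 * (24 * A + 6 * q + 2 * (q + 1) ^ 2) := by nlinarith [pow_pos hqpos 2]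
    have h7 := lt_of_mul_lt_mul_left h6 (by positivity)
    nlinarith
  have hL : L₀ ≤ q + 1 := by
    have hS2 : (S₀ : ℤ) ^ 2 ≤ (L₀ : ℤ) ^ 2 := pow_le_pow_left₀ (by positivity) (by exact_mod_cast hSL0) 2
    have hq27 : (27 : ℤ) ≤ q := by exact_mod_cast hq
    have hb : (L₀ : ℤ) < 4 * A := by
      by_contra hh
      push Not at hh
      nlinarith [mul_le_mul_of_nonneg_right hh (show (0 : ℤ) ≤ q ^ 2 - L₀ by nlinarith)]
    by_contra hh
    have hh' : (q : ℤ) + 2 ≤ L₀ := by exact_mod_cast (show q + 2 ≤ L₀ by omega)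
    nlinarith [mul_le_mul_of_nonneg_right hh' (show (0 : ℤ) ≤ q ^ 2 - L₀ by nlinarith)]
  have hLinv : ∀ a, ∀ ρ ∈ Ls, twist τ a ρ ∈ Ls := fun a ρ hρ => by
    simp only [hLs, Finset.mem_filter, Finset.mem_erase, Finset.mem_univ, true_and] at hρ ⊢
    exact ⟨⟨twist_ne_principal hρ.1.1, by rw [C.deg_twist]; exact hρ.1.2⟩, by rw [hinv]; exact hρ.2⟩
  have hpL : p ∉ Ls := by simp [hLs]
  have hone : ∀ ρ ∈ Ls, m ρ = 1 := by
    intro ρ hρ
    by_contra hne
    set V := Ls.filter fun σ => m σ ≠ 1 with hV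
    have hVc : A ∣ V.card := hTA ▸ dvd_card_of_invariant C.three C.not_three_dvd C.free V (fun a σ hσ => by
      simp only [hV, Finset.mem_filter] at hσ ⊢
      exact ⟨hLinv a σ hσ.1, by rw [hinv]; exact hσ.2⟩) fun h => hpL (Finset.mem_filter.1 h).1
    have hVp : 0 < V.card := Finset.card_pos.2 ⟨ρ, Finset.mem_filter.2 ⟨hρ, hne⟩⟩
    have h1 : V.card * 4 ≤ L₁ := by
      refine le_trans ?_ (Finset.sum_le_sum_of_subset (Finset.filter_subset (fun σ => m σ ≠ 1) Ls))
      rw [← smul_eq_mul, ← hV]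
      refine Finset.card_nsmul_le_sum _ _ _ fun σ hσ => ?_
      have h2 : 2 ≤ m σ := by
        simp only [hV, hLs, Finset.mem_filter] at hσ
        omega
      exact le_trans (by norm_num) (Nat.pow_le_pow_left h2 2)
    have := Nat.le_of_dvd hVp hVc
    omega
  obtain ⟨k, hk⟩ : A ∣ Ls.card := hTA ▸ dvd_card_of_invariant C.three C.not_three_dvd C.free Ls hLinv hpL
  have hS1 : S₁ = A * k := by
    rw [← hk, Finset.card_eq_sum_ones]
    exact Finset.sum_congr rfl hone
  have hL1 : L₁ = A * k := by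
    rw [← hk, Finset.card_eq_sum_ones]
    exact Finset.sum_congr rfl fun ρ hρ => by rw [hone ρ hρ, one_pow]
  have hk2 : k ≤ 2 := by
    by_contra hh
    have := Nat.mul_le_mul_left A (show 3 ≤ k by omega)
    omega
  have hp2 : m p ≤ 2 * n := by
    by_contra hh
    have h1 := Nat.pow_le_pow_left (show 2 * n + 1 ≤ m p by omega) 2
    nlinarith
  -- the congruence
  have hq0 : ((q : ℤ)) ∣ 2 * (m p : ℤ) + n - k := by
    have hdZ' : (d : ℤ) = q * X + m p + A * k := by rw [hdZ, hS₀, hS1]; push_cast; ring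
    rcases hdn with h | h
    · have h' : (d : ℤ) = n * A * (q + 1) + q * A := by exact_mod_cast h
      refine ⟨(n : ℤ) * A * 2 + 2 * A - 2 * X + n - k, ?_⟩
      rw [hdZ'] at h'
      linear_combination 2 * h' + ((k : ℤ) - n) * hqA
    · have h' : (d : ℤ) + q * A = n * A * (q + 1) := by exact_mod_cast h
      refine ⟨(n : ℤ) * A * 2 - 2 * A - 2 * X + n - k, ?_⟩
      rw [hdZ'] at h'
      linear_combination 2 * h' + ((k : ℤ) - n) * hqA
  have hlt : |2 * (m p : ℤ) + n - k| < q := by
    rw [abs_lt]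
    have h9 : 3 * 3 * n ≤ 3 * n ^ 2 := by nlinarith
    constructor <;> omega
  have h0 := Int.eq_zero_of_abs_lt_dvd hq0 hlt
  omega

/-- Class three contradicts the hypothesis on cyclic subgroups. -/
theorem false_of_normByCent (S : Finset (IrrCharacter P)) (hS : q - 1 ≤ S.card)
    (hdeg : ∀ ρ ∈ S, deg (ρ : P → ℂ) = q) (hn : NormByCent P) (hcl : ¬ ∀ x g : P, ⁅x, g⁆ ∈ center P) : False := by
  classical
  haveI : Fact (Nat.Prime 3) := ⟨Nat.prime_three⟩
  haveI : Group.IsNilpotent P := C.three.isNilpotent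
  have hq := C.q_ge
  letI : CommGroup (center P) := IsMulCommutative.instCommGroup
  obtain ⟨hZ, hall, -, -⟩ := C.spectrum S hS hdeg
  set Z := center P with hZdef
  set M := secondCenter P with hMdef
  have hZM : Z ≤ M := center_le_secondCenter P
  have hMtop : M ≠ ⊤ := fun e => hcl fun x g => mem_secondCenter.1 (hMdef ▸ e ▸ mem_top x) g
  -- the order of the second center
  have hMc : Nat.card M = q ^ 2 := by
    have hne : Z ≠ ⊤ := fun e => hcl fun x g => by show ⁅x, g⁆ ∈ Z; rw [e]; exact mem_top _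
    haveI : Nontrivial (P ⧸ Z) := Finite.one_lt_card_iff_nontrivial.1 (by
      rw [← Subgroup.index_eq_card]
      exact Subgroup.one_lt_index_of_ne_top hne)
    have h1 : Z < M := by
      refine lt_of_le_of_ne hZM fun e => ?_
      obtain ⟨⟨z, hz⟩, hz1⟩ := @exists_ne (center (P ⧸ Z)) (C.three.to_quotient Z).center_nontrivial 1
      obtain ⟨x, rfl⟩ := QuotientGroup.mk'_surjective Z z
      have hx : x ∈ M := mem_comap.2 hz
      rw [← e] at hx
      exact hz1 (Subtype.ext ((QuotientGroup.eq_one_iff x).2 hx))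
    have h2 : Nat.card M ≠ Nat.card P := fun e => hMtop (eq_top_of_card_eq _ e)
    have h3 : Nat.card Z < Nat.card M := by
      refine lt_of_le_of_ne (card_le_of_le hZM) fun e => h1.ne (eq_of_le_of_card_ge hZM e.ge)
    rcases C.card_eq_pow M (fun a x hx => map_secondCenter _ hx) with h | h | h | h
    · rw [h, hZ] at h3; omega
    · rw [h, hZ] at h3; omega
    · exact h
    · exact absurd (h.trans C.card.symm) h2
  -- the quotient by the second center is abelian, and the second center is abelian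
  haveI hMn : M.Normal := Subgroup.Normal.comap inferInstance _
  set D := _root_.commutator P with hD
  have hDinv : ∀ a, ∀ x ∈ D, τ a x ∈ D := fun a x hx =>
    (characteristic_iff_map_le.1 (inferInstance : (_root_.commutator P).Characteristic) (τ a))
      (mem_map_of_mem _ hx)
  have hsupinv : ∀ {H K : Subgroup P}, (∀ a, ∀ x ∈ H, τ a x ∈ H) → (∀ a, ∀ x ∈ K, τ a x ∈ K) →
      ∀ a, ∀ x ∈ H ⊔ K, τ a x ∈ H ⊔ K := fun {H K} hH hK a => by
    have : H ⊔ K ≤ (H ⊔ K).comap (τ a).toMonoidHom :=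
      sup_le (fun x hx => mem_sup_left (hH a x hx)) fun x hx => mem_sup_right (hK a x hx)
    exact fun x hx => this hx
  have hDM : D ≤ M := by
    haveI : Nontrivial (P ⧸ M) := Finite.one_lt_card_iff_nontrivial.1 (by
      rw [← Subgroup.index_eq_card]; exact Subgroup.one_lt_index_of_ne_top hMtop)
    have hne : D ⊔ M ≠ ⊤ := by
      intro e
      haveI : Group.IsNilpotent (P ⧸ M) := (C.three.to_quotient M).isNilpotent
      refine (Group.IsSolvable.commutator_lt_top_of_nontrivial (G := P ⧸ M)).ne (top_le_iff.1 ?_)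
      rw [← map_top_of_surjective _ (QuotientGroup.mk'_surjective M), ← e, Subgroup.map_sup, QuotientGroup.map_mk'_self,
        sup_bot_eq, hD, _root_.commutator_def, _root_.commutator_def, map_commutator]
      exact commutator_mono le_top le_top
    rcases C.card_eq_pow (D ⊔ M) (hsupinv hDinv fun a x hx => map_secondCenter _ hx) with h | h | h | h
    · have := card_le_of_le (le_sup_right : M ≤ D ⊔ M)
      rw [h, hMc] at this
      nlinarith
    · have := card_le_of_le (le_sup_right : M ≤ D ⊔ M)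
      rw [h, hMc] at this
      nlinarith
    · exact (le_sup_left : D ≤ D ⊔ M).trans
        (Subgroup.eq_of_le_of_card_ge le_sup_right (by rw [h, hMc])).ge
    · exact absurd (eq_top_of_card_eq _ (h.trans C.card.symm)) hne
  have hM : M = D ⊔ Z := by
    refine (Subgroup.eq_of_le_of_card_ge (sup_le hDM hZM) ?_).symm
    rcases C.card_eq_pow (D ⊔ Z) (hsupinv hDinv fun a x hx => map_center _ hx) with h | h | h | h
    · have := card_le_of_le (le_sup_right : Z ≤ D ⊔ Z)
      rw [h, hZ] at this; omega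
    · exfalso
      refine hcl fun x g => ?_
      have := Subgroup.eq_of_le_of_card_ge (le_sup_right : Z ≤ D ⊔ Z) (by rw [h, hZ])
      show ⁅x, g⁆ ∈ Z
      rw [this]
      exact mem_sup_left (commutator_mem_commutator (mem_top x) (mem_top g))
    · rw [h, hMc]
    · rw [h, hMc]; exact Nat.pow_le_pow_right (by omega) (by norm_num)
  have hMD : ⁅D, M⁆ = ⊥ := by
    have h1 : ⁅M, (⊤ : Subgroup P)⁆ ≤ Z := commutator_le.2 fun x hx g _ => mem_secondCenter.1 hx g
    have hZb : ⁅Z, (⊤ : Subgroup P)⁆ = ⊥ := commutator_eq_bot_iff_le_centralizer.2 fun z hz =>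
      mem_centralizer_iff.2 fun g _ => mem_center_iff.1 hz g
    rw [hD, _root_.commutator_def]
    refine commutator_commutator_eq_bot_of_rotate ?_ ?_
    · rw [commutator_comm ⊤ M]
      exact le_bot_iff.1 (hZb ▸ commutator_mono h1 le_rfl)
    · exact le_bot_iff.1 (hZb ▸ commutator_mono h1 le_rfl)
  have hMab : ∀ a ∈ M, ∀ b ∈ M, a * b = b * a := by
    intro a ha b hb
    have : M ≤ centralizer ({b} : Set P) := by
      rw [hM]
      refine sup_le (fun c hc => mem_centralizer_singleton_iff.2 ?_) fun c hc => mem_centralizer_singleton_iff.2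
        (mem_center_iff.1 hc b).symm
      exact commutatorElement_eq_one_iff_mul_comm.1 (mem_bot.1 (hMD ▸ commutator_mem_commutator hc hb))
    exact mem_centralizer_singleton_iff.1 (this ha)
  -- no element outside the second center centralizes an element of it outside the center
  have hinj : ∀ y, y ∉ M → ∀ c ∈ M, Commute y c → c ∈ Z := by
    intro y hy c hc hyc
    have hmap : ∀ u : M, ⁅y, (u : P)⁆ ∈ Z := fun u => by
      rw [← commutatorElement_inv]; exact inv_mem (mem_secondCenter.1 u.2 y)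
    let f : M →* P :=
      { toFun := fun u => ⁅y, (u : P)⁆
        map_one' := by simp
        map_mul' := fun u v => by
          have h := mem_center_iff.1 (hmap v) (u : P)
          calc ⁅y, (u : P) * v⁆ = ⁅y, (u : P)⁆ * ((u : P) * ⁅y, (v : P)⁆ * (u : P)⁻¹) := by
                simp only [commutatorElement_def]; group
            _ = ⁅y, (u : P)⁆ * ⁅y, (v : P)⁆ := by rw [h, mul_inv_cancel_right] }
    have hK : f.range ≤ Z := by rintro _ ⟨u, rfl⟩; exact hmap u
    by_cases htop : f.range = Z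
    · -- the kernel is the center
      have h := f.ker.card_mul_index
      rw [Subgroup.index_ker, htop, hZ, hMc, pow_two] at h
      have hker : Nat.card f.ker = q := Nat.eq_of_mul_eq_mul_right (by omega) h
      have hZker : Z.subgroupOf M ≤ f.ker := fun u hu => by
        rw [MonoidHom.mem_ker]
        exact commutatorElement_eq_one_iff_mul_comm.2 (mem_center_iff.1 (mem_subgroupOf.1 hu) y)
      have heq := Subgroup.eq_of_le_of_card_ge hZker (by
        rw [hker, Nat.card_congr (subgroupOfEquivOfLe hZM).toEquiv, hZ])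
      have : (⟨c, hc⟩ : M) ∈ f.ker := MonoidHom.mem_ker.2 (commutatorElement_eq_one_iff_mul_comm.2 hyc.eq)
      rw [← heq] at this
      exact mem_subgroupOf.1 this
    · exfalso
      set K := f.range with hKdef
      haveI hKn : K.Normal := ⟨fun k hk g => by
        rwa [mem_center_iff.1 (hK hk) g, mul_inv_cancel_right]⟩
      have hKZ : K.subgroupOf Z ≠ ⊤ := fun e => htop (le_antisymm hK (subgroupOf_eq_top.1 e))
      haveI : Nontrivial (↥Z ⧸ K.subgroupOf Z) := Finite.one_lt_card_iff_nontrivial.1 (by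
        rw [← Subgroup.index_eq_card]; exact Subgroup.one_lt_index_of_ne_top hKZ)
      letI : CommGroup (↥Z ⧸ K.subgroupOf Z) :=
        { (inferInstance : Group (↥Z ⧸ K.subgroupOf Z)) with
          mul_comm := fun a b => by
            induction a using QuotientGroup.induction_on with
            | H a => induction b using QuotientGroup.induction_on with
              | H b => exact congrArg (QuotientGroup.mk) (Subtype.ext (mem_center_iff.1 b.2 (a : P))) }
      obtain ⟨w, hw⟩ := exists_ne (1 : ↥Z ⧸ K.subgroupOf Z)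
      obtain ⟨φ, hφ⟩ := CommGroup.exists_apply_ne_one_of_hasEnoughRootsOfUnity (↥Z ⧸ K.subgroupOf Z) ℂ hw
      set l : ↥Z →* ℂˣ := φ.comp (QuotientGroup.mk' (K.subgroupOf Z)) with hl
      have hl1 : l ≠ 1 := fun e => hφ (by
        obtain ⟨z, rfl⟩ := QuotientGroup.mk'_surjective _ w
        exact DFunLike.congr_fun e z)
      obtain ⟨ρ, hρ, hρv⟩ := hall l hl1
      set N := M ⊔ zpowers y with hN
      set π := QuotientGroup.mk' K
      have hab : N.map π ≤ centralizer (N.map π : Set (P ⧸ K)) := by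
        have hgen : ∀ u ∈ M, Commute (π y) (π u) := fun u hu => by
          refine commutatorElement_eq_one_iff_mul_comm.1 ?_
          rw [← map_commutatorElement]
          exact (QuotientGroup.eq_one_iff _).2 ⟨⟨u, hu⟩, rfl⟩
        rw [hN, Subgroup.map_sup, sup_le_iff]
        constructor
        · rintro _ ⟨u, hu, rfl⟩
          refine mem_centralizer_iff.2 fun v hv => ?_
          rw [SetLike.mem_coe] at hv
          have : M.map π ⊔ (zpowers y).map π ≤ centralizer ({π u} : Set (P ⧸ K)) := by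
            refine sup_le ?_ ?_
            · rintro _ ⟨u', hu', rfl⟩
              exact mem_centralizer_singleton_iff.2 (by rw [← map_mul, ← map_mul, hMab u' hu' u hu])
            · rw [MonoidHom.map_zpowers, zpowers_le]
              exact mem_centralizer_singleton_iff.2 (hgen u hu).eq
          exact mem_centralizer_singleton_iff.1 (this hv)
        · rw [MonoidHom.map_zpowers, zpowers_le]
          refine mem_centralizer_iff.2 fun v hv => ?_
          rw [SetLike.mem_coe] at hv
          have : M.map π ⊔ zpowers (π y) ≤ centralizer ({π y} : Set (P ⧸ K)) := by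
            refine sup_le ?_ (zpowers_le.2 (mem_centralizer_singleton_iff.2 rfl))
            rintro _ ⟨u', hu', rfl⟩
            exact mem_centralizer_singleton_iff.2 (hgen u' hu').symm.eq
          exact mem_centralizer_singleton_iff.1 (this hv)
      have hker : ∀ a ∈ N, ∀ u ∈ N, (ρ : P → ℂ) ⁅a, u⁆ = (ρ : P → ℂ) 1 := fun a ha u hu => by
        have h1 : π ⁅a, u⁆ = 1 := by
          rw [map_commutatorElement, commutatorElement_eq_one_iff_mul_comm]
          exact (mem_centralizer_iff.1 (hab (mem_map_of_mem π ha)) _ (mem_map_of_mem π hu)).symm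
        have h2 : ⁅a, u⁆ ∈ K := (QuotientGroup.eq_one_iff _).1 h1
        have h3 := hρv ⟨_, hK h2⟩
        have h4 : l ⟨⁅a, u⁆, hK h2⟩ = 1 := by
          rw [hl, MonoidHom.comp_apply,
            show QuotientGroup.mk' (K.subgroupOf Z) ⟨⁅a, u⁆, hK h2⟩ = 1 from
              (QuotientGroup.eq_one_iff _).2 (mem_subgroupOf.2 h2), map_one]
        rw [h4, Units.val_one, mul_one] at h3
        rw [irr_apply_one_eq_deg, hρ]
        exact h3
      haveI : N.Normal := ⟨fun v hv g => by
        have hmem : ∀ z, z ∈ M → z ∈ N := fun z hz => mem_sup_left hz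
        rw [show g * v * g⁻¹ = ⁅g, v⁆ * v by rw [commutatorElement_def]; group]
        exact mul_mem (hmem _ (hDM (commutator_mem_commutator (mem_top g) (mem_top v)))) hv⟩
      have h := NDAD.deg_sq_mul_card_le_index ρ.2 N N le_rfl hker
      rw [hρ, C.card] at h
      have hNc := N.card_mul_index
      rw [C.card] at hNc
      have hlt : Nat.card M < Nat.card N := by
        refine lt_of_le_of_ne (card_le_of_le le_sup_left) fun e => hy ?_
        rw [Subgroup.eq_of_le_of_card_ge (le_sup_left : M ≤ N) e.ge]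
        exact mem_sup_right (mem_zpowers y)
      rw [hMc] at hlt
      have h5 : q ^ 2 * Nat.card N * Nat.card N ≤ q ^ 3 * q ^ 3 := by
        calc q ^ 2 * Nat.card N * Nat.card N ≤ N.index * q ^ 3 * Nat.card N := Nat.mul_le_mul_right _ h
          _ = Nat.card N * N.index * q ^ 3 := by ring
          _ = q ^ 3 * q ^ 3 := by rw [hNc]
      nlinarith [Nat.mul_le_mul hlt.le hlt, pow_pos (show 0 < q by omega) 2]
  -- the elements outside the second center have order three
  have hthree : ∀ x, x ∉ M → x ^ 3 = 1 := by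
    intro x hx
    by_contra hx3
    refine hx (mem_secondCenter.2 fun g => ?_)
    have h1 : ⁅x, g⁆ ∈ zpowers x := by
      rw [show ⁅x, g⁆ = x * (g * x * g⁻¹)⁻¹ by rw [commutatorElement_def]; group]
      exact mul_mem (mem_zpowers x) (inv_mem (conj_mem_zpowers C.three hn hx3 g))
    obtain ⟨k, hk⟩ := mem_zpowers_iff.1 h1
    exact hinj x hx _ (hDM (commutator_mem_commutator (mem_top x) (mem_top g)))
      (hk ▸ (Commute.refl x).zpow_right k)
  obtain ⟨y, hy⟩ : ∃ y, y ∉ M := by
    by_contra! h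
    exact hMtop (eq_top_iff.2 fun x _ => h x)
  -- the commutator subgroup of `y` modulo the center
  have hgood : ∀ g, g ∉ M → g * y ∉ M → g * y ^ 2 ∉ M → ⁅y, g⁆ ∈ Z := by
    intro g h0 h1 h2
    have e0 := hthree g h0
    have e1 := hthree _ h1
    have e2 := hthree _ h2
    have ey := hthree y hy
    set a := g
    set b := y * g * y⁻¹
    set c := y ^ 2 * g * (y ^ 2)⁻¹
    have h6 : y ^ 6 = 1 := by rw [show 6 = 3 * 2 from rfl, pow_mul, ey, one_pow]
    have habc : a * b * c = 1 := by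
      rw [show (g * y) ^ 3 = a * b * c * y ^ 3 by simp only [a, b, c, pow_succ, pow_zero, one_mul]; group,
        ey, mul_one] at e1
      exact e1
    have hacb : a * c * b = 1 := by
      have hyy : y ^ 2 * y ^ 2 = y := by rw [← pow_add, show 2 + 2 = 3 + 1 from rfl, pow_succ, ey, one_mul]
      have hc' : y ^ 2 * y ^ 2 * g * (y ^ 2 * y ^ 2)⁻¹ = b := by rw [hyy]
      rw [show (g * y ^ 2) ^ 3 = a * c * (y ^ 2 * y ^ 2 * g * (y ^ 2 * y ^ 2)⁻¹) * (y ^ 2) ^ 3 by
        have hexp : ∀ x u : P, (u * x) ^ 3 = u * (x * u * x⁻¹) * (x * x * u * (x * x)⁻¹) * x ^ 3 := fun x u => by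
          simp only [pow_succ, pow_zero, one_mul]; group
        exact hexp (y ^ 2) g, hc', ← pow_mul,
        show 2 * 3 = 6 from rfl, h6, mul_one] at e2
      exact e2
    have ha : a = (b * c)⁻¹ := eq_inv_of_mul_eq_one_left (by rw [← mul_assoc]; exact habc)
    have hbc : b * c = c * b := by
      have h7 := hacb
      rw [ha, mul_assoc, inv_mul_eq_one] at h7
      exact h7
    have hyb : y * b * y⁻¹ = c := by simp only [b, c, pow_two]; group
    have hb3 : b ^ 3 = 1 := by
      simp only [b]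
      rw [conj_pow, show g ^ 3 = 1 from e0, mul_one, mul_inv_cancel]
    have hw : ⁅y, g⁆ = b * a⁻¹ := by rw [commutatorElement_def]
    refine hinj y hy _ (hDM (commutator_mem_commutator (mem_top y) (mem_top g))) ?_
    show y * ⁅y, g⁆ = ⁅y, g⁆ * y
    rw [← mul_inv_eq_iff_eq_mul, hw]
    calc y * (b * a⁻¹) * y⁻¹ = (y * b * y⁻¹) * (y * a * y⁻¹)⁻¹ := by group
      _ = c * b⁻¹ := by rw [hyb]
      _ = b * a⁻¹ := by
          have hbi : b⁻¹ = b * b := inv_eq_of_mul_eq_one_right (by rw [← pow_three]; exact hb3)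
          rw [ha, inv_inv, hbi, ← mul_assoc, ← hbc, mul_assoc, ← hbc]
  set W : Subgroup P := (centralizer ({QuotientGroup.mk' Z y} : Set (P ⧸ Z))).comap (QuotientGroup.mk' Z) with hW
  have hWmem : ∀ g, ⁅y, g⁆ ∈ Z → g ∈ W := fun g hg => by
    refine mem_comap.2 (mem_centralizer_singleton_iff.2 (commutatorElement_eq_one_iff_mul_comm.1 ?_).symm)
    rw [← map_commutatorElement]
    exact (QuotientGroup.eq_one_iff _).2 hg
  have hWtop : W = ⊤ := by
    have hcov : (Finset.univ : Finset P) ⊆ (Finset.univ.filter fun g => g ∈ W) ∪ (Finset.univ.filter fun g => g ∈ M) ∪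
        (Finset.univ.filter fun g => g * y ∈ M) ∪ (Finset.univ.filter fun g => g * y ^ 2 ∈ M) := fun g _ => by
      simp only [Finset.mem_union, Finset.mem_filter, Finset.mem_univ, true_and]
      by_contra h
      simp only [not_or] at h
      exact h.1.1.1 (hWmem g (hgood g h.1.1.2 h.1.2 h.2))
    have hc1 : ∀ z : P, (Finset.univ.filter fun g => g * z ∈ M).card = Nat.card M := fun z => by
      rw [← Fintype.card_subtype, ← Nat.card_eq_fintype_card]
      exact Nat.card_congr ((Equiv.mulRight z).subtypeEquiv fun g => Iff.rfl)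
    have hc0 : ∀ H : Subgroup P, (Finset.univ.filter fun g => g ∈ H).card = Nat.card H := fun H => by
      rw [← Fintype.card_subtype, ← Nat.card_eq_fintype_card]
    have h1 := Finset.card_le_card hcov
    have h2 := le_trans h1 (le_trans (Finset.card_union_le _ _) (Nat.add_le_add_right (le_trans
      (Finset.card_union_le _ _) (Nat.add_le_add_right (Finset.card_union_le _ _) _)) _))
    rw [Finset.card_univ, hc1 y, hc1 (y ^ 2), hc0, hc0, hMc, ← Nat.card_eq_fintype_card, C.card] at h2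
    by_contra hne
    have hi := Subgroup.one_lt_index_of_ne_top hne
    have h4 := W.card_mul_index
    rw [C.card] at h4
    have h5 : Nat.card W * 2 ≤ q ^ 3 := h4 ▸ Nat.mul_le_mul_left _ hi
    nlinarith [Nat.mul_le_mul_right (q ^ 2) (show 7 ≤ q by omega)]
  refine hy (mem_secondCenter.2 fun g => ?_)
  have hg : g ∈ W := hWtop ▸ mem_top g
  refine (QuotientGroup.eq_one_iff _).1 ?_
  rw [← QuotientGroup.mk'_apply, map_commutatorElement, commutatorElement_eq_one_iff_mul_comm]
  exact (mem_centralizer_singleton_iff.1 (mem_comap.1 hg)).symm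

end Counts

end Cfsg.Lib.TICyclic
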