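import Cfsg.Agent.TICyclic.Kill.Irr
import Cfsg.Agent.TICyclic.Kill.Frame
import Cfsg.Agent.Chars.DegreeTools

/-!
The restriction of an irreducible character to the Sylow 3-subgroup: an invariant decomposition of small norm.
-/

set_option autoImplicit false
set_option linter.unusedSectionVars false
set_option linter.style.haveILetI false

namespace Cfsg.Lib.TICyclic

open Subgroup Cfsg Cfsg.Lib.Chars

universe u

variable {G : Type u} [Group G] [Fintype G] {q : ℕ} {R T : Subgroup G}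

/-- The action of `T` on `R`. -/
noncomputable def Borel.act (B : Borel q R T) : T →* MulAut R :=
  R.normalizerMonoidHom.comp (Subgroup.inclusion B.norm)

theorem Borel.act_apply (B : Borel q R T) (a : T) (x : R) : (B.act a x : G) = a * x * (a : G)⁻¹ := rfl

theorem Borel.free (B : Borel q R T) : Free B.act := fun a x h => by
  by_cases ha : a = 1
  · exact Or.inl ha
  refine Or.inr (Subtype.ext (B.fpf a a.2 (fun e => ha (Subtype.ext e)) x x.2 ?_))
  have h1 := congrArg (fun z : R => (z : G)) h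
  simp only [Borel.act_apply] at h1
  exact (mul_inv_eq_iff_eq_mul.1 h1).symm

/-- An irreducible character of `G` on `R`. -/
theorem Borel.exists_mult [Fintype R] (B : Borel q R T) (hG : Nat.card G = q ^ 3 * (q ^ 3 + 1) * (q - 1))
    (χ : IrrCharacter G) :
    ∃ m : IrrCharacter R → ℕ,
      (∀ x : R, (χ : G → ℂ) x = ∑ φ, (m φ : ℂ) * (φ : R → ℂ) x) ∧
      (∀ a φ, m (twist B.act a φ) = m φ) ∧
      deg (χ : G → ℂ) = ∑ φ, m φ * deg (φ : R → ℂ) ∧
      q ^ 3 * ∑ φ, m φ ^ 2 < q ^ 3 * (q - 1) + deg (χ : G → ℂ) ^ 2 := by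
  classical
  have hres : IsCharacter R (fun x : R => (χ : G → ℂ) x) := IsCharacter.restrict (isCharacter_of_irr χ.2) R
  obtain ⟨m, hm, hmi, hmd⟩ := exists_degree_decomp hres
  refine ⟨m, fun x => congrFun hm x, fun a φ => ?_, ?_, ?_⟩
  · apply Nat.cast_injective (R := ℂ)
    rw [← hmi, ← hmi, classInner_def, classInner_def]
    refine congrArg _ ((Fintype.sum_equiv (B.act a).toEquiv _ _ fun x => ?_).symm)
    show _ = (χ : G → ℂ) (B.act a x : G) *
      (starRingEnd ℂ) ((twist B.act a φ : R → ℂ) (B.act a x))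
    rw [twist_apply, B.act_apply, isClassFunction_irr χ]
  · have : deg (χ : G → ℂ) = deg (fun x : R => (χ : G → ℂ) x) := by
      apply Nat.cast_injective (R := ℂ)
      rw [← irr_apply_one_eq_deg, ← IsCharacter.apply_one_eq_deg hres, OneMemClass.coe_one]
    rw [this]; exact hmd
  set d := deg (χ : G → ℂ) with hd
  set S : ℝ := ∑ x : R, ‖(χ : G → ℂ) x‖ ^ 2 with hS
  -- the norm
  have hnorm : S = (q : ℝ) ^ 3 * ((∑ φ, m φ ^ 2 : ℕ) : ℝ) := by
    have h := classInner_self (fun x : R => (χ : G → ℂ) x)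
    have hm2 : (fun x : R => (χ : G → ℂ) x) = ∑ φ, (m φ : ℂ) • (φ : R → ℂ) := by
      rw [hm]; funext x; simp [Finset.sum_apply]
    have h2 : classInner (fun x : R => (χ : G → ℂ) x) (fun x : R => (χ : G → ℂ) x) =
        (((∑ φ, m φ ^ 2 : ℕ) : ℝ) : ℂ) := by
      rw [hm2, classInner_self_decomp]
      push_cast
      exact Finset.sum_congr rfl fun φ _ => by rw [Complex.conj_natCast, pow_two]
    rw [h2] at h
    have h3 := Complex.ofReal_injective h
    rw [h3, B.card_R]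
    push_cast
    have hq0 : (q : ℝ) ^ 3 ≠ 0 := by
      have h4 : Nat.card R ≠ 0 := Nat.card_pos.ne'
      rw [B.card_R] at h4
      exact_mod_cast h4
    rw [← mul_assoc, mul_inv_cancel₀ hq0, one_mul]
  -- the conjugates
  have hd1 : ‖(χ : G → ℂ) 1‖ ^ 2 = (d : ℝ) ^ 2 := by rw [irr_apply_one_eq_deg, Complex.norm_natCast]
  have hsplit : S = (d : ℝ) ^ 2 + ∑ x ∈ Finset.univ.erase (1 : R), ‖(χ : G → ℂ) x‖ ^ 2 := by
    rw [hS, ← Finset.add_sum_erase _ _ (Finset.mem_univ (1 : R)), OneMemClass.coe_one, hd1]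
  obtain ⟨Ω, iΩ, c, hΩ, hc⟩ := B.spread
  have htot : ∑ g : G, ‖(χ : G → ℂ) g‖ ^ 2 = (Nat.card G : ℝ) := by
    have h := classInner_self (χ : G → ℂ)
    rw [classInner_irr_self] at h
    have h3 := Complex.ofReal_injective (h.symm.trans Complex.ofReal_one.symm)
    have hG0 : (Nat.card G : ℝ) ≠ 0 := by exact_mod_cast Nat.card_pos.ne'
    field_simp at h3
    linarith
  let f : Ω × R → G := fun p => c p.1 * (p.2 : G) * (c p.1)⁻¹
  set I := ((Finset.univ : Finset Ω) ×ˢ (Finset.univ.erase (1 : R))).image f with hI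
  have hsum : ∑ g ∈ I, ‖(χ : G → ℂ) g‖ ^ 2 =
      (Fintype.card Ω : ℝ) * ∑ x ∈ Finset.univ.erase (1 : R), ‖(χ : G → ℂ) x‖ ^ 2 := by
    rw [hI, Finset.sum_image, Finset.sum_product]
    · rw [Finset.sum_congr rfl (g := fun _ : Ω => ∑ x ∈ Finset.univ.erase (1 : R), ‖(χ : G → ℂ) x‖ ^ 2)
        fun i _ => Finset.sum_congr rfl fun x _ => by
          show ‖(χ : G → ℂ) (c i * x * (c i)⁻¹)‖ ^ 2 = _
          rw [isClassFunction_irr χ],
        Finset.sum_const, Finset.card_univ, nsmul_eq_mul]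
    · rintro ⟨i, x⟩ hx ⟨j, y⟩ _ he
      simp only [Finset.coe_product, Set.mem_prod, Finset.mem_coe, Finset.mem_erase] at hx
      have hij : i = j := hc i j x x.2 y y.2 (fun e => hx.2.1 (Subtype.ext e)) he
      subst hij
      exact Prod.ext rfl (Subtype.ext (mul_left_cancel (mul_right_cancel he)))
  have h1I : (1 : G) ∉ I := by
    rw [hI, Finset.mem_image]
    rintro ⟨⟨i, x⟩, hx, he⟩
    simp only [Finset.mem_product, Finset.mem_erase] at hx
    exact hx.2.1 (Subtype.ext (conj_eq_one_iff.1 he))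
  have hle : ∑ g ∈ insert 1 I, ‖(χ : G → ℂ) g‖ ^ 2 ≤ ∑ g : G, ‖(χ : G → ℂ) g‖ ^ 2 :=
    Finset.sum_le_sum_of_subset_of_nonneg (Finset.subset_univ _) fun _ _ _ => by positivity
  rw [Finset.sum_insert h1I, hsum, htot, hd1, hΩ] at hle
  have hdpos : 0 < d := deg_irr_pos χ
  have key : ((q ^ 3 * ∑ φ, m φ ^ 2 : ℕ) : ℝ) < ((q ^ 3 * (q - 1) + d ^ 2 : ℕ) : ℝ) := by
    rw [hG] at hle
    push_cast at hle hnorm ⊢
    rw [← hnorm, hsplit]
    set W := ∑ x ∈ Finset.univ.erase (1 : R), ‖(χ : G → ℂ) x‖ ^ 2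
    have hdR : (0 : ℝ) < d := by exact_mod_cast hdpos
    have hq0 : (0 : ℝ) < (q : ℝ) ^ 3 + 1 := by positivity
    have h5 : W < (q : ℝ) ^ 3 * ((q - 1 : ℕ) : ℝ) := by
      refine lt_of_mul_lt_mul_left ?_ hq0.le
      nlinarith [pow_pos hdR 2]
    linarith
  exact_mod_cast key

end Cfsg.Lib.TICyclic
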