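import Cfsg.Agent.TICyclic.Kill.Local
import Cfsg.Agent.TICyclic.Kill.Norm
import Cfsg.Agent.TICyclic.Kill.Degrees

/-!
In a group of Ree type some element normalizes no cyclic subgroup although it centralizes a nontrivial element of
it.
-/

set_option autoImplicit false
set_option linter.unusedSectionVars false
set_option linter.style.haveILetI false

namespace Cfsg.Lib.TICyclic

open Subgroup Cfsg Cfsg.Lib.Chars
open scoped commutatorElement

universe u v

theorem normByCent_subgroup {G : Type u} [Group G] (R : Subgroup G)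
    (h : ∀ x ∈ R, ∀ u ∈ R, ∀ g ∈ R, u ∈ zpowers x → u ≠ 1 → g * u * g⁻¹ = u → g * x * g⁻¹ ∈ zpowers x) :
    NormByCent R := by
  intro x u g hu hu1 hg
  obtain ⟨k, hk⟩ := mem_zpowers_iff.1 hu
  have := h x x.2 u u.2 g g.2 (mem_zpowers_iff.2 ⟨k, by rw [← hk, SubgroupClass.coe_zpow]⟩)
    (fun e => hu1 (Subtype.ext e)) (congrArg (fun z : R => (z : G)) hg)
  obtain ⟨j, hj⟩ := mem_zpowers_iff.1 this
  exact mem_zpowers_iff.2 ⟨j, Subtype.ext (by push_cast; exact hj)⟩

variable {G : Type u} [Group G] [Fintype G] {t : G} {E : Subgroup G} [Fintype E] {F : Type v} [Field F]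
  [Fintype F]

/-- No group of Ree type is TI for cyclic subgroups of order a power of three. -/
theorem setting_false (H : Ree.Setting t E F)
    (hTI : ∀ x u g : G, (∃ k, orderOf x = 3 ^ k) → u ∈ zpowers x → u ≠ 1 → g * u * g⁻¹ = u →
      g * x * g⁻¹ ∈ zpowers x) : False := by
  classical
  obtain ⟨n, hn, hq, a, b, c, ha, hb, hc⟩ := exists_degrees H
  set q := Fintype.card F with hqdef
  have B₀ : ReeAb.Base t E q := ReeAb.Base.of_setting H
  obtain ⟨R, T, B⟩ := exists_borel B₀ c hc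
  letI := Fintype.ofFinite R
  have C : Counts q (2 * n + 1) R B.act :=
    ⟨hq, ⟨n, rfl⟩, by omega, B.three, B.card_R, B.card_T, B.free⟩
  obtain ⟨ma, -, hma, hda, hna⟩ := B.exists_mult B₀.card a
  obtain ⟨S, hS, hdeg⟩ := C.exists_many ma hma hda ha hna
  by_cases hab : ∀ x g : R, ⁅x, g⁆ ∈ center R
  · obtain ⟨mb, -, hmb, hdb, hnb⟩ := B.exists_mult B₀.card b
    refine C.false_of_class_two hab S hS hdeg mb hmb (n := 3 ^ n) hdb ?_ hb hnb
    rw [hq, ← pow_mul, mul_comm n, pow_succ']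
  · refine C.false_of_normByCent S hS hdeg (normByCent_subgroup R fun x hx u _ g _ hu hu1 hg => ?_) hab
    obtain ⟨k, hk⟩ := IsPGroup.iff_orderOf.1 B.three ⟨x, hx⟩
    exact hTI x u g ⟨k, by rwa [Subgroup.orderOf_mk] at hk⟩ hu hu1 hg

end Cfsg.Lib.TICyclic
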