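import Mathlib

/-!
In a 3-group whose cyclic subgroups are normalized by the centralizers of their elements of order three, the
elements of order at least nine generate normal subgroups.
-/

set_option autoImplicit false

namespace Cfsg.Lib.TICyclic

open Subgroup

universe u

variable {P : Type u} [Group P] [Finite P]

/-- An element which centralizes a nontrivial element of a cyclic subgroup normalizes that subgroup. -/
def NormByCent (P : Type u) [Group P] : Prop :=
  ∀ x u g : P, u ∈ zpowers x → u ≠ 1 → g * u * g⁻¹ = u → g * x * g⁻¹ ∈ zpowers x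

/-- The elements of cube one of a cyclic group of order nine are powers of the cube of the generator. -/
theorem mem_cube_zpowers {x y : P} (hx : x ^ 9 = 1) (hx3 : x ^ 3 ≠ 1) (hy : y ∈ zpowers x)
    (hy3 : y ^ 3 = 1) : y ∈ zpowers (x ^ 3) := by
  obtain ⟨k, rfl⟩ := mem_zpowers_iff.1 hy
  haveI : Fact (Nat.Prime 3) := ⟨Nat.prime_three⟩
  have ho : orderOf x = 3 ^ (1 + 1) :=
    orderOf_eq_prime_pow (p := 3) (n := 1) (by simpa using hx3) (by simpa using hx)
  have h : ((orderOf x : ℕ) : ℤ) ∣ k * 3 := by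
    rw [orderOf_dvd_iff_zpow_eq_one, zpow_mul]
    exact_mod_cast hy3
  rw [ho] at h
  obtain ⟨j, hj⟩ : (3 : ℤ) ∣ k := by omega
  refine mem_zpowers_iff.2 ⟨j, ?_⟩
  rw [hj, zpow_mul]
  norm_cast

/-- The cube of an element of order nine is central. -/
theorem cube_central (hP : IsPGroup 3 P) (h : NormByCent P) {x : P} (hx : x ^ 9 = 1) (hx3 : x ^ 3 ≠ 1) :
    x ^ 3 ∈ center P := by
  haveI : Fact (Nat.Prime 3) := ⟨Nat.prime_three⟩
  set u := x ^ 3 with hu
  have hu3 : u ^ 3 = 1 := by rw [hu, ← pow_mul]; exact hx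
  set S := centralizer ({u} : Set P) with hS
  by_contra hc
  have hlt : S < ⊤ := lt_top_iff_ne_top.2 fun e => hc (mem_center_iff.2 fun g =>
    mem_centralizer_singleton_iff.1 (e ▸ mem_top g : g ∈ S))
  haveI : Group.IsNilpotent P := hP.isNilpotent
  have hN : S < normalizer (S : Set P) := normalizerCondition_of_isNilpotent S hlt
  -- an element of order three modulo `S`
  obtain ⟨g, hgN, hgS, hg3⟩ : ∃ g ∈ normalizer (S : Set P), g ∉ S ∧ g ^ 3 ∈ S := by
    obtain ⟨g₀, hg₀, hg₀S⟩ := SetLike.exists_of_lt hN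
    obtain ⟨k, hk⟩ := IsPGroup.iff_orderOf.1 hP g₀
    have hex : ∃ j, g₀ ^ 3 ^ j ∈ S := ⟨k, by rw [← hk, pow_orderOf_eq_one]; exact one_mem _⟩
    classical
    obtain ⟨j, hj⟩ : ∃ j, Nat.find hex = j + 1 := ⟨Nat.find hex - 1, by
      have : Nat.find hex ≠ 0 := fun e => hg₀S (by simpa [e] using Nat.find_spec hex)
      omega⟩
    refine ⟨g₀ ^ 3 ^ j, pow_mem hg₀ _, Nat.find_min hex (by omega), ?_⟩
    rw [← pow_mul, ← pow_succ, ← hj]
    exact Nat.find_spec hex
  set σ : P ≃* P := MulAut.conj g with hσ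
  have hσS : ∀ z, z ∈ S → σ z ∈ S := fun z hz => (mem_normalizer_iff.1 hgN z).1 hz
  have hS' : ∀ z, z ∈ S ↔ z * u * z⁻¹ = u := fun z => by
    rw [hS, mem_centralizer_singleton_iff, mul_inv_eq_iff_eq_mul]
  have hσ3 : σ (σ (σ u)) = u := by
    have h3 := (hS' _).1 hg3
    rw [hσ, MulAut.conj_apply, MulAut.conj_apply, MulAut.conj_apply]
    rw [pow_three] at h3
    calc g * (g * (g * u * g⁻¹) * g⁻¹) * g⁻¹ = g * (g * g) * u * (g * (g * g))⁻¹ := by group
      _ = u := h3
  have hu1 : u ≠ 1 := hx3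
  have hgu : σ u ≠ u := fun e => hgS ((hS' g).2 (by simpa [hσ] using e))
  -- the image of `u` is not a power of `u`
  have hpow : ∀ z ∈ zpowers u, z = 1 ∨ z = u ∨ z = u⁻¹ := by
    intro z hz
    obtain ⟨k, rfl⟩ := mem_zpowers_iff.1 hz
    have hk : u ^ k = u ^ (k % 3) := by
      rw [zpow_eq_zpow_emod k (n := 3) (by exact_mod_cast hu3)]
    rcases (show k % 3 = 0 ∨ k % 3 = 1 ∨ k % 3 = 2 by omega) with e | e | e <;> rw [hk, e]
    · left; simp
    · right; left; simp
    · right; right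
      rw [eq_inv_iff_mul_eq_one, ← zpow_add_one]
      exact_mod_cast hu3
  have hnot : σ u ∉ zpowers u := by
    intro hz
    rcases hpow _ hz with e | e | e
    · exact hu1 (σ.injective (e.trans (map_one σ).symm))
    · exact hgu e
    · rw [e, map_inv, e, inv_inv, e] at hσ3
      exact hgu (e.trans hσ3)
  have hxS : x ∈ S := (hS' x).2 (by rw [hu]; group)
  have hnot2 : σ (σ u) ∉ zpowers u := by
    intro hz
    have h1 : u ∈ zpowers (σ u) := by
      obtain ⟨k, hk⟩ := mem_zpowers_iff.1 hz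
      exact mem_zpowers_iff.2 ⟨k, by rw [← map_zpow, hk, hσ3]⟩
    rcases hpow _ hz with e | e | e
    · exact hu1 (σ.injective ((σ.injective (by rw [e, map_one, map_one] : σ (σ u) = σ (σ 1))).trans rfl))
    · exact hgu (by have := congrArg σ e; rw [hσ3] at this; exact this.symm)
    · have := congrArg σ e
      rw [hσ3, map_inv] at this
      exact hnot (by rw [← inv_inv (σ u), ← this]; exact inv_mem (mem_zpowers u))
  -- two of the conjugates of `x` commute
  have hcomm : ∀ b : P, b ∈ S → x ∈ centralizer ({b ^ 3} : Set P) → b ^ 9 = 1 → b ^ 3 ∉ zpowers u →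
      Commute x b := by
    intro b hbS hxb hb9 hb
    have h1 : b * x * b⁻¹ ∈ zpowers x := h x u b (pow_mem (mem_zpowers x) 3) hu1 ((hS' b).1 hbS)
    have hb3 : b ^ 3 ≠ 1 := fun e => hb (e ▸ one_mem _)
    have h2 : x * b * x⁻¹ ∈ zpowers b := h b (b ^ 3) x (pow_mem (mem_zpowers b) 3) hb3 (by
      rw [mul_inv_eq_iff_eq_mul]; exact mem_centralizer_singleton_iff.1 hxb)
    set w := x * b * x⁻¹ * b⁻¹ with hw
    have hwx : w ∈ zpowers x := by
      rw [hw, show x * b * x⁻¹ * b⁻¹ = x * (b * x * b⁻¹)⁻¹ by group]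
      exact mul_mem (mem_zpowers x) (inv_mem h1)
    have hwb : w ∈ zpowers b := mul_mem h2 (inv_mem (mem_zpowers b))
    by_contra hne
    have hw1 : w ≠ 1 := fun e => hne (by
      rw [hw, mul_inv_eq_one, mul_inv_eq_iff_eq_mul] at e
      exact e)
    have key : ∀ z : P, z ^ 3 = 1 → z ≠ 1 → z ∈ zpowers x → z ∈ zpowers b → False := by
      intro z hz3 hz1 hzx hzb
      have h3 := mem_cube_zpowers hx hx3 hzx hz3
      obtain ⟨k, hk⟩ := mem_zpowers_iff.1 (mem_cube_zpowers hb9 hb3 hzb hz3)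
      rcases hpow z h3 with e | e | e
      · exact hz1 e
      all_goals
        have hbz : b ^ 3 ∈ zpowers z := by
          have hk3 : ¬ (3 : ℤ) ∣ k := fun ⟨j, hj⟩ => hz1 (by
            rw [← hk, hj, zpow_mul]
            norm_cast
            rw [← pow_mul]
            norm_num
            rw [hb9, one_zpow])
          have hb33 : (b ^ 3) ^ (3 : ℤ) = 1 := by norm_cast; rw [← pow_mul]; exact hb9
          rcases (show k % 3 = 1 ∨ k % 3 = 2 by omega) with r | r
          · rw [← hk, ← Int.emod_add_mul_ediv k 3, r, zpow_add, zpow_mul, hb33, one_zpow, zpow_one, mul_one]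
            exact mem_zpowers _
          · rw [← hk, ← Int.emod_add_mul_ediv k 3, r, zpow_add, zpow_mul, hb33, one_zpow, mul_one]
            refine mem_zpowers_iff.2 ⟨2, ?_⟩
            rw [← zpow_mul, show (2 : ℤ) * 2 = 1 + 3 by norm_num, zpow_add, hb33, zpow_one, mul_one]
        exact hb (zpowers_le.2 h3 hbz)
    by_cases h3 : w ^ 3 = 1
    · exact key w h3 hw1 hwx hwb
    · refine key (w ^ 3) ?_ h3 (pow_mem hwx 3) (pow_mem hwb 3)
      obtain ⟨k, hk⟩ := mem_zpowers_iff.1 hwx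
      rw [← hk, ← pow_mul, ← zpow_natCast, ← zpow_mul, mul_comm, zpow_mul, zpow_natCast, hx, one_zpow]
  have hσ9 : ∀ z : P, z ^ 9 = 1 → σ z ^ 9 = 1 := fun z hz => by rw [← map_pow, hz, map_one]
  have hxa1 : x ∈ centralizer ({σ x ^ 3} : Set P) := by
    rw [← map_pow, ← hu]
    have hxσ : σ.symm x ∈ S := (mem_normalizer_iff.1 hgN _).2 (by
      have := σ.apply_symm_apply x
      rw [hσ, MulAut.conj_apply] at this
      rw [hσ]
      rwa [this])
    refine mem_centralizer_singleton_iff.2 ?_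
    have := congrArg σ (mem_centralizer_singleton_iff.1 hxσ)
    simpa using this
  have c01 : Commute x (σ x) := hcomm _ (hσS x hxS) hxa1 (hσ9 x hx) (by rwa [← map_pow, ← hu])
  have c12 : Commute (σ x) (σ (σ x)) := c01.map σ.toMonoidHom
  have c02 : Commute x (σ (σ x)) := by
    refine hcomm _ (hσS _ (hσS x hxS)) ?_ (hσ9 _ (hσ9 x hx)) (by rwa [← map_pow, ← map_pow, ← hu])
    rw [← map_pow, ← map_pow, ← hu]
    have hxσ : σ.symm (σ.symm x) ∈ S := by
      have hback : ∀ z, z ∈ S → σ.symm z ∈ S := fun z hz => (mem_normalizer_iff.1 hgN _).2 (by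
        have := σ.apply_symm_apply z
        rw [hσ, MulAut.conj_apply] at this
        rw [hσ]
        rwa [this])
      exact hback _ (hback x hxS)
    refine mem_centralizer_singleton_iff.2 ?_
    have := congrArg (fun z => σ (σ z)) (mem_centralizer_singleton_iff.1 hxσ)
    simpa using this
  -- the differences
  set a1 := σ x with ha1
  set a2 := σ a1 with ha2
  set d1 := x⁻¹ * a1 with hd1
  set d2 := d1⁻¹ * σ d1 with hd2
  set w1 := d1 ^ 3 with hw1
  set w2 := d2 ^ 3 with hw2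
  have cd : Commute x⁻¹ a1 := c01.inv_left
  have hw1' : w1 = u⁻¹ * σ u := by rw [hw1, hd1, cd.mul_pow, inv_pow, ha1, ← map_pow]
  have hσd1 : σ d1 = a1⁻¹ * a2 := by rw [hd1, map_mul, map_inv]
  have cdd : Commute d1⁻¹ (σ d1) := by
    rw [hσd1, hd1]
    exact (Commute.mul_left (((c01.inv_left).inv_right).mul_right (c02.inv_left))
      ((Commute.refl a1).inv_right.mul_right c12)).inv_left
  have hw2' : w2 = w1⁻¹ * σ w1 := by rw [hw2, hd2, cdd.mul_pow, inv_pow, hw1, map_pow]
  have cu : Commute u (σ u) := by rw [hu, map_pow]; exact c01.pow_pow 3 3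
  have cu2 : Commute u (σ (σ u)) := by rw [hu, map_pow, map_pow]; exact c02.pow_pow 3 3
  have cu12 : Commute (σ u) (σ (σ u)) := cu.map σ.toMonoidHom
  have hsig2 : σ w2 = w2 := by
    rw [hw2', hw1']
    simp only [map_mul, map_inv, hσ3, _root_.mul_inv_rev, inv_inv]
    have e1 : u⁻¹ = u * u := inv_eq_of_mul_eq_one_right (by rw [← pow_three]; exact hu3)
    have e2 : (σ u)⁻¹ = σ u * σ u := by rw [← map_inv, e1, map_mul]
    have e3 : (σ (σ u))⁻¹ = σ (σ u) * σ (σ u) := by rw [← map_inv, e2, map_mul]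
    rw [e2, e3]
    have r1 : σ u * σ u * u * (σ u * σ u * σ (σ u)) = u * σ u * σ (σ u) * (σ u * σ u * σ u) := by
      simp only [mul_assoc, cu.eq, cu12.eq, cu.left_comm, cu12.left_comm, cu.symm.left_comm]
    have r0 : σ u * σ u * σ u = 1 := by
      rw [← map_mul, ← map_mul, mul_assoc, ← pow_three, hu3, map_one]
    have r2 : σ (σ u) * σ (σ u) * σ u * (σ (σ u) * σ (σ u) * u) = u * σ u * σ (σ u) * (σ (σ u) * σ (σ u) * σ (σ u)) := by
      simp only [mul_assoc, cu2.eq, cu12.eq, cu.eq, cu2.left_comm, cu12.left_comm, cu.left_comm]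
    have r3 : σ (σ u) * σ (σ u) * σ (σ u) = 1 := by
      rw [← map_mul σ, ← map_mul σ, r0, map_one]
    rw [r1, r2, r0, r3]
  have hw1ne : w1 ≠ 1 := fun e => hgu (by rw [hw1', inv_mul_eq_one] at e; exact e.symm)
  have hd19 : d1 ^ 9 = 1 := by rw [hd1, cd.mul_pow, inv_pow, hx, ha1, hσ9 x hx, inv_one, one_mul]
  have hσσd : σ d1 ^ 9 = 1 := hσ9 _ hd19
  have hd29 : d2 ^ 9 = 1 := by rw [hd2, cdd.mul_pow, inv_pow, hd19, hσσd, inv_one, one_mul]
  by_cases hw21 : w2 = 1
  · -- the third power of `g` moves `x` by `w1`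
    have hsw1 : σ w1 = w1 := (inv_mul_eq_one.1 (hw2'.symm.trans hw21)).symm
    have h1 : σ d1 ∈ zpowers d1 := h d1 w1 g (pow_mem (mem_zpowers d1) 3) hw1ne hsw1
    have hd2m : d2 ∈ zpowers w1 :=
      mem_cube_zpowers hd19 hw1ne (mul_mem (inv_mem (mem_zpowers d1)) h1) hw21
    have hsd2 : σ d2 = d2 := by
      obtain ⟨k, hk⟩ := mem_zpowers_iff.1 hd2m
      rw [← hk, map_zpow, hsw1]
    have e1 : σ d1 = d1 * d2 := by rw [hd2, mul_inv_cancel_left]
    have e0 : σ x = x * d1 := by rw [hd1, mul_inv_cancel_left]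
    clear_value d2 d1
    have cd12 : Commute d1 d2 := by
      rw [hd2]; exact ((Commute.refl d1).inv_right).mul_right (by simpa using cdd.inv_left)
    have e3 : σ (σ (σ x)) = x * w1 := by
      rw [show σ (σ (σ x)) = x * d1 * (d1 * d2) * (d1 * d2 * d2) by
        rw [e0, map_mul, e0, e1, map_mul, map_mul, map_mul, e0, e1, hsd2], hw1]
      have : d2 ^ 3 = 1 := hw21
      calc x * d1 * (d1 * d2) * (d1 * d2 * d2) = x * (d1 * (d1 * d2) * (d1 * d2 * d2)) := by group
        _ = x * (d1 ^ 3 * d2 ^ 3) := by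
            simp only [pow_three, mul_assoc, cd12.eq, cd12.left_comm]
        _ = x * d1 ^ 3 := by rw [this, mul_one]
    have hn : g ^ 3 * x * (g ^ 3)⁻¹ ∈ zpowers x :=
      h x u _ (pow_mem (mem_zpowers x) 3) hu1 ((hS' _).1 hg3)
    have hxw : σ (σ (σ x)) ∈ zpowers x := by
      rw [hσ, MulAut.conj_apply, MulAut.conj_apply, MulAut.conj_apply]
      rwa [show g * (g * (g * x * g⁻¹) * g⁻¹) * g⁻¹ = g ^ 3 * x * (g ^ 3)⁻¹ by rw [pow_three]; group]
    rw [e3] at hxw
    have h2 : w1 ∈ zpowers x := by simpa using mul_mem (inv_mem (mem_zpowers x)) hxw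
    have h3 := mem_cube_zpowers hx hx3 h2 (by rw [hw1, ← pow_mul]; exact hd19)
    rw [hw1'] at h3
    exact hnot (by simpa using mul_mem (mem_zpowers u) h3)
  · -- `g` centralizes the last difference
    have hd2n : σ d2 ∈ zpowers d2 := h d2 w2 g (pow_mem (mem_zpowers d2) 3) hw21 hsig2
    have cx1 : Commute x d1 := by rw [hd1]; exact (Commute.refl x).inv_right.mul_right c01
    have cx2 : Commute x d2 := by
      rw [hd2]; refine cx1.inv_right.mul_right ?_
      rw [hσd1]; exact c01.inv_right.mul_right c02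
    have cd2u : Commute d2 u := (cx2.pow_left 3).symm
    have hz : (d2 * u) ^ 3 = w2 := by rw [cd2u.mul_pow, hu3, mul_one]
    have hz9 : (d2 * u) ^ 9 = 1 := by
      rw [cd2u.mul_pow, hd29, one_mul, show 9 = 3 * 3 from rfl, pow_mul, hu3, one_pow]
    have hzn : σ (d2 * u) ∈ zpowers (d2 * u) := h (d2 * u) w2 g
      (hz ▸ pow_mem (mem_zpowers _) 3) hw21 hsig2
    have hf1 : (σ d2 * d2⁻¹) ∈ zpowers w2 := by
      obtain ⟨k, hk⟩ := mem_zpowers_iff.1 hd2n
      refine mem_cube_zpowers hd29 hw21 (mul_mem hd2n (inv_mem (mem_zpowers _))) ?_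
      have hc : Commute (σ d2) d2⁻¹ := by rw [← hk]; exact ((Commute.refl d2).zpow_left k).inv_right
      rw [hc.mul_pow, inv_pow, ← map_pow, ← hw2, hsig2, mul_inv_cancel]
    have hf2 : σ (d2 * u) * (d2 * u)⁻¹ ∈ zpowers w2 := by
      obtain ⟨k, hk⟩ := mem_zpowers_iff.1 hzn
      rw [← hz] at hw21 hsig2 ⊢
      refine mem_cube_zpowers hz9 hw21 (mul_mem hzn (inv_mem (mem_zpowers _))) ?_
      have hc : Commute (σ (d2 * u)) (d2 * u)⁻¹ := by
        rw [← hk]; exact ((Commute.refl _).zpow_left k).inv_right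
      rw [hc.mul_pow, inv_pow, ← map_pow, hsig2, mul_inv_cancel]
    have hf3 : σ u * u⁻¹ ∈ zpowers w2 := by
      rw [map_mul, _root_.mul_inv_rev] at hf2
      have h4 : σ d2 * (σ u * u⁻¹) * d2⁻¹ ∈ zpowers w2 := by
        rwa [show σ d2 * (σ u * u⁻¹) * d2⁻¹ = σ d2 * σ u * (u⁻¹ * d2⁻¹) by group]
      have hcz : Commute (σ u * u⁻¹) d2⁻¹ := by
        refine (Commute.mul_left ?_ cd2u.symm.inv_left).inv_right
        rw [hd2, hd1, map_mul, map_inv, ← ha1, ← ha2, hu, map_pow, ← ha1]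
        exact ((c01.symm.inv_right.mul_right (Commute.refl a1)).inv_right.mul_right
          ((Commute.refl a1).inv_right.mul_right c12)).pow_left 3
      rw [mul_assoc, hcz.eq, ← mul_assoc] at h4
      simpa only [inv_mul_cancel_left] using mul_mem (inv_mem hf1) h4
    have hsw1 : σ w1 = w1 := by
      obtain ⟨k, hk⟩ := mem_zpowers_iff.1 hf3
      have e : w1 = w2 ^ k := by rw [hw1', hk]; exact cu.inv_left.eq
      rw [e, map_zpow, hsig2]
    exact hw21 (by rw [hw2', hsw1, inv_mul_cancel])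

/-- An element of order at least nine generates a normal subgroup. -/
theorem conj_mem_zpowers (hP : IsPGroup 3 P) (h : NormByCent P) {x : P} (hx3 : x ^ 3 ≠ 1) (g : P) :
    g * x * g⁻¹ ∈ zpowers x := by
  haveI : Fact (Nat.Prime 3) := ⟨Nat.prime_three⟩
  obtain ⟨k, hk⟩ := IsPGroup.iff_orderOf.1 hP x
  have hk2 : 2 ≤ k := by
    by_contra hlt
    refine hx3 (orderOf_dvd_iff_pow_eq_one.1 ?_)
    rw [hk]
    exact (pow_dvd_pow 3 (show k ≤ 1 by omega)).trans (by norm_num)
  set x' := x ^ 3 ^ (k - 2) with hx'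
  have h9 : x' ^ 9 = 1 := by
    rw [hx', ← pow_mul, show 3 ^ (k - 2) * 9 = 3 ^ k by
      rw [show 3 ^ k = 3 ^ (k - 2 + 2) by rw [Nat.sub_add_cancel hk2], pow_add]; norm_num, ← hk, pow_orderOf_eq_one]
  have h3 : x' ^ 3 ≠ 1 := by
    rw [hx', ← pow_mul, ← pow_succ]
    exact pow_ne_one_of_lt_orderOf (by positivity) (hk ▸ Nat.pow_lt_pow_right (by norm_num) (by omega))
  have hc := cube_central hP h h9 h3
  refine h x (x' ^ 3) g (pow_mem (pow_mem (mem_zpowers x) _) 3) h3 ?_
  rw [mem_center_iff.1 hc g, mul_inv_cancel_right]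

end Cfsg.Lib.TICyclic
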